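import Mathlib
import Cfsg.Agent.H79.OrbitDual

/-!
# Siegel elements of a quadratic space of plus type over the field with two elements

`Op2 F V G`: `V` is a vector space over the field `F` with two elements with a quadratic form `Q`
(polar form `B`, nondegenerate), `G` a group of isometries generated by the elements `s e w`
(`Q e = 0`, `B e w = 0`), transitive on the independent families of at most three vectors with
given values of `Q` and `B`.
-/

set_option autoImplicit false
set_option linter.unusedSectionVars false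

namespace Cfsg.Agent.H79.MinIdxOP2

/-- Quadratic space over the field with two elements with a group of isometries. -/
structure Op2 (F V G : Type*) [Field F] [AddCommGroup V] [Module F V] [Group G]
    [DistribMulAction G V] where
  two : ∀ a : F, a = 0 ∨ a = 1
  Q : V → F
  B : V → V → F
  Q_add : ∀ u v, Q (u + v) = Q u + Q v + B u v
  add_left : ∀ u v w, B (u + v) w = B u w + B v w
  symm : ∀ u v, B u v = B v u
  self : ∀ v, B v v = 0
  nd : ∀ v, (∀ w, B v w = 0) → v = 0
  invQ : ∀ (g : G) v, Q (g • v) = Q v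
  s : V → V → G
  s_smul : ∀ {e w : V}, Q e = 0 → B e w = 0 → ∀ x : V,
    s e w • x = x + B e x • w + B w x • e + (Q w * B e x) • e
  ext : ∀ g h : G, (∀ x : V, g • x = h • x) → g = h
  gen : ∀ H : Subgroup G, (∀ e w, Q e = 0 → B e w = 0 → s e w ∈ H) → H = ⊤
  wit1 : ∀ e e' : V, e ≠ 0 → e' ≠ 0 → Q e = Q e' → ∃ g : G, g • e = e'
  wit2 : ∀ e a e' a' : V, e ≠ 0 → a ≠ 0 → a ≠ e → e' ≠ 0 → a' ≠ 0 → a' ≠ e' →
    Q e = Q e' → Q a = Q a' → B e a = B e' a' → ∃ g : G, g • e = e' ∧ g • a = a'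
  wit3 : ∀ e a b e' a' b' : V, e ≠ 0 → a ≠ 0 → a ≠ e → b ≠ 0 → b ≠ e → b ≠ a → b ≠ e + a →
    e' ≠ 0 → a' ≠ 0 → a' ≠ e' → b' ≠ 0 → b' ≠ e' → b' ≠ a' → b' ≠ e' + a' →
    Q e = Q e' → Q a = Q a' → Q b = Q b' → B e a = B e' a' → B e b = B e' b' → B a b = B a' b' →
    ∃ g : G, g • e = e' ∧ g • a = a' ∧ g • b = b'

namespace Op2

variable {F V G : Type*} [Field F] [AddCommGroup V] [Module F V] [Group G]
    [DistribMulAction G V] (S : Op2 F V G)

theorem add_right (u v w : V) : S.B u (v + w) = S.B u v + S.B u w := by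
  rw [S.symm, S.add_left, S.symm v, S.symm w]

include S in
theorem one_add_one : (1 : F) + 1 = 0 := by
  rcases S.two (1 + 1) with h | h
  · exact h
  · exact absurd (add_eq_left.1 h) one_ne_zero

include S in
theorem add_self (v : V) : v + v = 0 := by
  have h : (1 : F) • v + (1 : F) • v = 0 := by rw [← add_smul, S.one_add_one, zero_smul]
  rwa [one_smul] at h

include S in
theorem add_selfF (a : F) : a + a = 0 := by
  rcases S.two a with rfl | rfl
  · exact add_zero 0
  · exact S.one_add_one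

include S in
theorem add_add_self (v w : V) : v + (v + w) = w := by
  rw [← add_assoc, S.add_self, zero_add]

include S in
theorem add_add_self' (v w : V) : v + w + w = v := by
  rw [add_assoc, S.add_self, add_zero]

include S in
theorem neg_eq (v : V) : -v = v := by
  rw [neg_eq_iff_add_eq_zero]
  exact S.add_self v

include S in
theorem add_eq_zero {v w : V} : v + w = 0 ↔ v = w := by
  constructor
  · intro h
    have := congrArg (fun z => z + w) h
    simpa [add_assoc, S.add_self] using this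
  · rintro rfl
    exact S.add_self v

include S in
theorem add_eq_zeroF {v w : F} : v + w = 0 ↔ v = w := by
  constructor
  · intro h
    have := congrArg (fun z => z + w) h
    simpa [add_assoc, S.add_selfF] using this
  · rintro rfl
    exact S.add_selfF v

include S in
theorem add_eq_iff {u v w : V} : u + v = w ↔ u = v + w := by
  constructor
  · rintro rfl
    rw [add_comm u, S.add_add_self]
  · rintro rfl
    rw [add_comm, S.add_add_self]

theorem zero_left (w : V) : S.B 0 w = 0 := by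
  have := S.add_left 0 0 w
  rw [add_zero] at this
  exact left_eq_add.1 this

theorem zero_right (w : V) : S.B w 0 = 0 := by rw [S.symm, S.zero_left]

theorem Q_zero : S.Q 0 = 0 := by
  have := S.Q_add 0 0
  rw [add_zero, S.self, add_zero] at this
  exact left_eq_add.1 this

include S in
theorem ne_one {a : F} : a ≠ 1 ↔ a = 0 := by
  rcases S.two a with rfl | rfl
  · simp
  · simp

include S in
theorem ne_zero {a : F} : a ≠ 0 ↔ a = 1 := by
  rcases S.two a with rfl | rfl
  · simp
  · simp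

include S in
theorem smul_smul' (g : G) (a : F) (v : V) : g • (a • v) = a • (g • v) := by
  rcases S.two a with rfl | rfl
  · rw [zero_smul, zero_smul, smul_zero]
  · rw [one_smul, one_smul]

theorem smul_left (a : F) (u v : V) : S.B (a • u) v = a * S.B u v := by
  rcases S.two a with rfl | rfl
  · rw [zero_smul, S.zero_left, zero_mul]
  · rw [one_smul, one_mul]

theorem smul_right (a : F) (u v : V) : S.B u (a • v) = a * S.B u v := by
  rw [S.symm, S.smul_left, S.symm]

theorem Q_smul (a : F) (u : V) : S.Q (a • u) = a * S.Q u := by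
  rcases S.two a with rfl | rfl
  · rw [zero_smul, S.Q_zero, zero_mul]
  · rw [one_smul, one_mul]

theorem inv (g : G) (v w : V) : S.B (g • v) (g • w) = S.B v w := by
  have h1 := S.invQ g (v + w)
  rw [smul_add, S.Q_add, S.Q_add, S.invQ, S.invQ] at h1
  exact add_left_cancel h1

theorem inv_left (g : G) (v w : V) : S.B (g • v) w = S.B v (g⁻¹ • w) := by
  rw [← S.inv g v, smul_inv_smul]

theorem inv_right (g : G) (v w : V) : S.B v (g • w) = S.B (g⁻¹ • v) w := by
  rw [← S.inv g _ w, smul_inv_smul]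

include S in
theorem smul_ne_zero {g : G} {v : V} (hv : v ≠ 0) : g • v ≠ 0 := by
  intro h
  apply hv
  have := congrArg (fun z => g⁻¹ • z) h
  simpa using this

theorem s_conj (g : G) {e w : V} (he : S.Q e = 0) (hw : S.B e w = 0) :
    g * S.s e w * g⁻¹ = S.s (g • e) (g • w) := by
  apply S.ext
  intro x
  rw [mul_smul, mul_smul, S.s_smul he hw, S.s_smul (by rw [S.invQ, he]) (by rw [S.inv, hw]),
    smul_add, smul_add, smul_add, smul_inv_smul, S.smul_smul', S.smul_smul', S.smul_smul',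
    S.inv_left, S.inv_left, S.invQ]

theorem s_mul {e w w' : V} (he : S.Q e = 0) (hw : S.B e w = 0) (hw' : S.B e w' = 0) :
    S.s e w * S.s e w' = S.s e (w + w') := by
  have h1 : S.B e (w + w') = 0 := by rw [S.add_right, hw, hw', add_zero]
  have h2 : S.B w e = 0 := by rw [S.symm, hw]
  apply S.ext
  intro x
  rw [mul_smul, S.s_smul he hw, S.s_smul he hw', S.s_smul he h1]
  simp only [S.add_right, S.add_left, S.smul_right, S.self, hw', h2, mul_zero, add_zero, S.Q_add]
  rcases S.two (S.B e x) with h3 | h3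
  · simp only [h3, zero_smul, add_zero, mul_zero, add_smul, zero_mul]
    abel
  · simp only [h3, one_mul, mul_one, one_smul, add_smul]
    abel

theorem s_zero {e : V} (he : S.Q e = 0) : S.s e 0 = 1 := by
  have h := S.s_mul he (S.zero_right e) (S.zero_right e)
  rw [add_zero] at h
  exact mul_eq_left.1 h

theorem s_self {e : V} (he : S.Q e = 0) : S.s e e = 1 := by
  apply S.ext
  intro x
  rw [S.s_smul he (S.self e), he, zero_mul, zero_smul, add_zero, add_assoc, S.add_self, add_zero,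
    one_smul]

theorem s_sq {e w : V} (he : S.Q e = 0) (hw : S.B e w = 0) : S.s e w * S.s e w = 1 := by
  rw [S.s_mul he hw hw, S.add_self, S.s_zero he]

theorem s_inv {e w : V} (he : S.Q e = 0) (hw : S.B e w = 0) : (S.s e w)⁻¹ = S.s e w := by
  rw [inv_eq_iff_mul_eq_one, S.s_sq he hw]

theorem s_symm {e w : V} (he : S.Q e = 0) (hw' : S.Q w = 0) (hw : S.B e w = 0) :
    S.s e w = S.s w e := by
  apply S.ext
  intro x
  rw [S.s_smul he hw, S.s_smul hw' (by rw [S.symm, hw]), he, hw', zero_mul, zero_mul, zero_smul,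
    zero_smul, add_zero, add_zero, add_right_comm]

theorem s_add_self {e w : V} (he : S.Q e = 0) (hw : S.B e w = 0) : S.s e (w + e) = S.s e w := by
  rw [← S.s_mul he hw (S.self e), S.s_self he, mul_one]

theorem s_comm {e w w' : V} (he : S.Q e = 0) (hw : S.B e w = 0) (hw' : S.B e w' = 0) :
    S.s e w * S.s e w' = S.s e w' * S.s e w := by
  rw [S.s_mul he hw hw', S.s_mul he hw' hw, add_comm]

/-- A vector not in `{0, e}` is not orthogonal to `e`-perp. -/
theorem sep {e z : V} (hz : z ≠ 0) (hze : z ≠ e) : ∃ w, S.B e w = 0 ∧ S.B z w = 1 := by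
  have key : ∀ u : V, u ≠ 0 → ∃ w, S.B u w = 1 := by
    intro u hu
    by_contra hcon
    push Not at hcon
    exact hu (S.nd u fun w => S.ne_one.1 (hcon w))
  obtain ⟨y1, h1⟩ := key z hz
  rcases S.two (S.B e y1) with h2 | h2
  · exact ⟨y1, h2, h1⟩
  obtain ⟨y2, h3⟩ := key (z + e) (fun h => hze (S.add_eq_zero.1 h))
  rw [S.add_left] at h3
  rcases S.two (S.B e y2) with h4 | h4
  · rw [h4, add_zero] at h3
    exact ⟨y2, h4, h3⟩
  · rw [h4] at h3
    have h5 : S.B z y2 = 0 := by
      rcases S.two (S.B z y2) with h | h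
      · exact h
      · rw [h, S.one_add_one] at h3
        exact absurd h3 zero_ne_one
    exact ⟨y1 + y2, by rw [S.add_right, h2, h4, S.one_add_one],
      by rw [S.add_right, h1, h5, add_zero]⟩

/-! ### Counting vectors -/

section Count

variable [Fintype V]

open Classical in
/-- The number of vectors with a property. -/
noncomputable def cnt (P : V → Prop) : ℕ := (Finset.univ.filter P).card

theorem cnt_mono {P R : V → Prop} (h : ∀ v, P v → R v) : cnt P ≤ cnt R := by
  classical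
  unfold cnt
  apply Finset.card_le_card
  intro v hv
  rw [Finset.mem_filter] at hv ⊢
  exact ⟨hv.1, h v hv.2⟩

theorem cnt_congr {P R : V → Prop} (h : ∀ v, P v ↔ R v) : cnt P = cnt R :=
  le_antisymm (cnt_mono fun v => (h v).1) (cnt_mono fun v => (h v).2)

theorem cnt_split (P R : V → Prop) :
    cnt (fun v => P v ∧ R v) + cnt (fun v => P v ∧ ¬ R v) = cnt P := by
  classical
  have h := Finset.card_filter_add_card_filter_not (s := Finset.univ.filter P) R
  rw [Finset.filter_filter, Finset.filter_filter] at h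
  unfold cnt
  convert h

theorem cnt_true : cnt (fun _ : V => True) = Fintype.card V := by
  classical
  unfold cnt
  rw [Finset.filter_true, Finset.card_univ]

include S in
theorem cnt_shift {P R : V → Prop} (y : V) (h : ∀ v, P v → R (v + y))
    (h' : ∀ v, R v → P (v + y)) : cnt P = cnt R := by
  classical
  have key : ∀ P R : V → Prop, (∀ v, P v → R (v + y)) → cnt P ≤ cnt R := by
    intro P R h
    unfold cnt
    refine Finset.card_le_card_of_injOn (fun v => v + y) ?_ ?_
    · intro v hv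
      simp only [Finset.coe_filter, Finset.mem_univ, true_and, Set.mem_ofPred_eq] at hv ⊢
      exact h v hv
    · intro v _ w _ hvw
      exact add_right_cancel hvw
  exact le_antisymm (key P R h) (key R P h')

/-- Removing a few vectors. -/
theorem cnt_le_add (P : V → Prop) (T : Finset V) :
    cnt P ≤ cnt (fun v => P v ∧ v ∉ T) + T.card := by
  rw [← cnt_split P (fun v => v ∉ T)]
  apply Nat.add_le_add_left
  have h1 : cnt (fun v => P v ∧ ¬ v ∉ T) ≤ cnt (fun v => v ∈ T) :=
    cnt_mono fun v hv => not_not.1 hv.2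
  refine h1.trans (le_of_eq ?_)
  unfold cnt
  congr 1
  ext v
  simp

theorem cnt_Q (P : V → Prop) :
    cnt (fun v => P v ∧ S.Q v = 0) + cnt (fun v => P v ∧ S.Q v = 1) = cnt P := by
  rw [← cnt_split P (fun v => S.Q v = 0)]
  congr 1
  exact cnt_congr fun v => by rw [← S.ne_zero]

theorem cnt_B (P : V → Prop) (z : V) :
    cnt (fun v => P v ∧ S.B z v = 0) + cnt (fun v => P v ∧ S.B z v = 1) = cnt P := by
  rw [← cnt_split P (fun v => S.B z v = 0)]
  congr 1
  exact cnt_congr fun v => by rw [← S.ne_zero]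

variable {b : ℕ}

theorem cnt_perp (hV : Fintype.card V = 16 * b ^ 2) {e : V} (he : e ≠ 0) :
    cnt (fun v => S.B e v = 0) = 8 * b ^ 2 ∧ cnt (fun v => S.B e v = 1) = 8 * b ^ 2 := by
  obtain ⟨y, -, hy⟩ := S.sep (e := 0) he he
  have h1 : cnt (fun v => S.B e v = 0) = cnt (fun v => S.B e v = 1) := by
    refine S.cnt_shift y (fun v hv => ?_) (fun v hv => ?_)
    · rw [S.add_right, hv, hy, zero_add]
    · rw [S.add_right, hv, hy, S.one_add_one]
  have h2 := S.cnt_B (fun _ => True) e
  rw [cnt_true, hV] at h2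
  rw [cnt_congr (R := fun v => S.B e v = 0) (fun v => by simp),
    cnt_congr (P := fun v => True ∧ S.B e v = 1) (R := fun v => S.B e v = 1)
      (fun v => by simp)] at h2
  omega

theorem cnt_perp_one (hV : Fintype.card V = 16 * b ^ 2) {e : V} (he : e ≠ 0) (hQe : S.Q e = 0) :
    cnt (fun v => S.B e v = 1 ∧ S.Q v = 0) = 4 * b ^ 2 ∧
      cnt (fun v => S.B e v = 1 ∧ S.Q v = 1) = 4 * b ^ 2 := by
  have h1 : cnt (fun v => S.B e v = 1 ∧ S.Q v = 0) = cnt (fun v => S.B e v = 1 ∧ S.Q v = 1) := by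
    refine S.cnt_shift e (fun v hv => ?_) (fun v hv => ?_)
    · rw [S.add_right, S.self, add_zero, S.Q_add, hQe, hv.2, S.symm v e, hv.1, add_zero, zero_add]
      exact ⟨rfl, rfl⟩
    · rw [S.add_right, S.self, add_zero, S.Q_add, hQe, hv.2, S.symm v e, hv.1, add_zero,
        S.one_add_one]
      exact ⟨rfl, rfl⟩
  have h2 := S.cnt_Q (fun v => S.B e v = 1)
  rw [(S.cnt_perp hV he).2] at h2
  omega

theorem cnt_sing (hV : Fintype.card V = 16 * b ^ 2)
    (hQ : cnt (fun v => S.Q v = 0) = 8 * b ^ 2 + 2 * b) {e : V} (he : e ≠ 0) (hQe : S.Q e = 0) :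
    cnt (fun v => S.B e v = 0 ∧ S.Q v = 0) = 4 * b ^ 2 + 2 * b ∧
      cnt (fun v => S.B e v = 0 ∧ S.Q v = 1) = 4 * b ^ 2 - 2 * b := by
  have h1 := S.cnt_B (fun v => S.Q v = 0) e
  rw [hQ, cnt_congr (R := fun v => S.B e v = 0 ∧ S.Q v = 0) (fun v => and_comm),
    cnt_congr (P := fun v => S.Q v = 0 ∧ S.B e v = 1) (R := fun v => S.B e v = 1 ∧ S.Q v = 0)
      (fun v => and_comm), (S.cnt_perp_one hV he hQe).1] at h1
  have h2 := S.cnt_Q (fun v => S.B e v = 0)
  rw [(S.cnt_perp hV he).1] at h2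
  omega

theorem cnt_two (hV : Fintype.card V = 16 * b ^ 2) {e z : V} (he : e ≠ 0)
    (hz : z ≠ 0) (hze : z ≠ e) :
    cnt (fun v => S.B e v = 0 ∧ S.B z v = 0) = 4 * b ^ 2 ∧
      cnt (fun v => S.B e v = 0 ∧ S.B z v = 1) = 4 * b ^ 2 := by
  obtain ⟨y, hy0, hy⟩ := S.sep hz hze
  have h1 : cnt (fun v => S.B e v = 0 ∧ S.B z v = 0) =
      cnt (fun v => S.B e v = 0 ∧ S.B z v = 1) := by
    refine S.cnt_shift y (fun v hv => ?_) (fun v hv => ?_)
    · rw [S.add_right, S.add_right, hv.1, hv.2, hy, hy0, zero_add, zero_add]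
      exact ⟨rfl, rfl⟩
    · rw [S.add_right, S.add_right, hv.1, hv.2, hy, hy0, zero_add, S.one_add_one]
      exact ⟨rfl, rfl⟩
  have h2 := S.cnt_B (fun v => S.B e v = 0) z
  rw [(S.cnt_perp hV he).1] at h2
  omega

/-- `v` singular. -/
theorem cnt_hyp (hV : Fintype.card V = 16 * b ^ 2) {e v : V} (he : e ≠ 0)
    (hv : v ≠ 0) (hve : v ≠ e) (hQv : S.Q v = 0) (hev : S.B e v = 0) :
    cnt (fun w => S.B e w = 0 ∧ S.B v w = 1 ∧ S.Q w = 0) = 2 * b ^ 2 := by
  have h1 : cnt (fun w => (S.B e w = 0 ∧ S.B v w = 1) ∧ S.Q w = 0) =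
      cnt (fun w => (S.B e w = 0 ∧ S.B v w = 1) ∧ S.Q w = 1) := by
    refine S.cnt_shift v (fun w hw => ?_) (fun w hw => ?_)
    · rw [S.add_right, S.add_right, hw.1.1, hw.1.2, S.Q_add, hw.2, hQv, S.symm w v, hw.1.2,
        hev, S.self, add_zero, add_zero, zero_add]
      exact ⟨⟨rfl, rfl⟩, rfl⟩
    · rw [S.add_right, S.add_right, hw.1.1, hw.1.2, S.Q_add, hw.2, hQv, S.symm w v, hw.1.2,
        hev, S.self, add_zero, add_zero]
      exact ⟨⟨rfl, rfl⟩, S.one_add_one⟩
  have h2 := S.cnt_Q (fun w => S.B e w = 0 ∧ S.B v w = 1)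
  rw [(S.cnt_two hV he hv hve).2] at h2
  rw [cnt_congr (R := fun w => (S.B e w = 0 ∧ S.B v w = 1) ∧ S.Q w = 0) (fun v => and_assoc.symm)]
  omega

theorem cnt_ts (hV : Fintype.card V = 16 * b ^ 2)
    (hQ : cnt (fun v => S.Q v = 0) = 8 * b ^ 2 + 2 * b) {e v : V} (he : e ≠ 0) (hQe : S.Q e = 0)
    (hv : v ≠ 0) (hve : v ≠ e) (hQv : S.Q v = 0) (hev : S.B e v = 0) :
    cnt (fun w => S.B e w = 0 ∧ S.B v w = 0 ∧ S.Q w = 0) = 2 * b ^ 2 + 2 * b := by
  have h1 := S.cnt_hyp hV he hv hve hQv hev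
  have h2 := (S.cnt_sing hV hQ he hQe).1
  have h3 := S.cnt_B (fun w => S.B e w = 0 ∧ S.Q w = 0) v
  rw [h2, cnt_congr (R := fun w => S.B e w = 0 ∧ S.B v w = 0 ∧ S.Q w = 0)
      (fun w => by tauto),
    cnt_congr (P := fun w => (S.B e w = 0 ∧ S.Q w = 0) ∧ S.B v w = 1)
      (R := fun w => S.B e w = 0 ∧ S.B v w = 1 ∧ S.Q w = 0) (fun w => by tauto), h1] at h3
  omega

/-- `n` nonsingular. -/
theorem cnt_ns (hV : Fintype.card V = 16 * b ^ 2)
    (hQ : cnt (fun v => S.Q v = 0) = 8 * b ^ 2 + 2 * b) {e n : V} (he : e ≠ 0) (hQe : S.Q e = 0)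
    (hQn : S.Q n = 1) (hen : S.B e n = 0) :
    cnt (fun w => S.B e w = 0 ∧ S.B n w = 0 ∧ S.Q w = 0) = 2 * b ^ 2 ∧
      cnt (fun w => S.B e w = 0 ∧ S.B n w = 1 ∧ S.Q w = 1) = 2 * b ^ 2 - 2 * b := by
  have hn : n ≠ 0 := by
    rintro rfl
    rw [S.Q_zero] at hQn
    exact zero_ne_one hQn
  have hne : n ≠ e := by
    rintro rfl
    rw [hQe] at hQn
    exact zero_ne_one hQn
  have h1 : cnt (fun w => (S.B e w = 0 ∧ S.B n w = 0) ∧ S.Q w = 0) =
      cnt (fun w => (S.B e w = 0 ∧ S.B n w = 0) ∧ S.Q w = 1) := by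
    refine S.cnt_shift n (fun w hw => ?_) (fun w hw => ?_)
    · rw [S.add_right, S.add_right, hw.1.1, hw.1.2, S.Q_add, hw.2, hQn, S.symm w n, hw.1.2,
        hen, S.self, add_zero, add_zero, zero_add]
      exact ⟨⟨rfl, rfl⟩, rfl⟩
    · rw [S.add_right, S.add_right, hw.1.1, hw.1.2, S.Q_add, hw.2, hQn, S.symm w n, hw.1.2,
        hen, S.self, add_zero, add_zero, S.one_add_one]
      exact ⟨⟨rfl, rfl⟩, rfl⟩
  have h2 := S.cnt_Q (fun w => S.B e w = 0 ∧ S.B n w = 0)
  rw [(S.cnt_two hV he hn hne).1] at h2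
  have h3 := (S.cnt_sing hV hQ he hQe).2
  have h4 := S.cnt_B (fun w => S.B e w = 0 ∧ S.Q w = 1) n
  rw [h3, cnt_congr (R := fun w => (S.B e w = 0 ∧ S.B n w = 0) ∧ S.Q w = 1)
      (fun w => by tauto),
    cnt_congr (P := fun w => (S.B e w = 0 ∧ S.Q w = 1) ∧ S.B n w = 1)
      (R := fun w => S.B e w = 0 ∧ S.B n w = 1 ∧ S.Q w = 1) (fun w => by tauto)] at h4
  rw [cnt_congr (R := fun w => (S.B e w = 0 ∧ S.B n w = 0) ∧ S.Q w = 0) (fun v => and_assoc.symm)]
  omega

end Count

end Op2

end Cfsg.Agent.H79.MinIdxOP2
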