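import Mathlib
import Cfsg.Agent.H79.MinIdxOP2.Basic

/-!
# Invariant families of subspaces of `e`-perp
-/

set_option autoImplicit false
set_option linter.unusedSectionVars false

namespace Cfsg.Agent.H79.MinIdxOP2

open Cfsg.Agent.H79.OrbitDual

namespace Op2

variable {F V G : Type*} [Field F] [AddCommGroup V] [Module F V] [Group G]
    [DistribMulAction G V] (S : Op2 F V G)

include S in
theorem finite_F : Finite F := by
  refine Finite.of_surjective (fun i : Fin 2 => if i = 0 then (0 : F) else 1) ?_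
  intro a
  rcases S.two a with rfl | rfl
  · exact ⟨0, by simp⟩
  · exact ⟨1, by simp⟩

theorem cnt_eq [Fintype V] (P : V → Prop) [DecidablePred P] :
    cnt P = (Finset.univ.filter P).card := by
  unfold cnt
  congr

/-- The annihilator of a subgroup. -/
theorem card_perp [Finite V] (C : AddSubgroup V) :
    Nat.card {v // ∀ w ∈ C, S.B w v = 0} = C.index := by
  obtain ⟨χ, hχ⟩ : ∃ χ : AddChar F ℂ, χ 1 ≠ 1 := by
    have : Finite F := S.finite_F
    exact (AddChar.exists_apply_ne_zero (a := (1 : F))).2 one_ne_zero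
  have hχ' : ∀ a : F, χ a = 1 ↔ a = 0 := by
    intro a
    rcases S.two a with rfl | rfl
    · simp
    · simp [hχ]
  let φ : V → AddChar V ℂ := fun v =>
    { toFun := fun w => χ (S.B w v)
      map_zero_eq_one' := by
        change χ (S.B 0 v) = 1
        rw [S.zero_left, AddChar.map_zero_eq_one]
      map_add_eq_mul' := by
        intro a b
        change χ (S.B (a + b) v) = _
        rw [S.add_left, AddChar.map_add_eq_mul] }
  have h0 : Nat.card {v // ∀ a, φ v a = 1} = 1 := by
    rw [Nat.card_eq_one_iff_unique]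
    refine ⟨⟨fun a b => ?_⟩, ⟨⟨0, fun w => ?_⟩⟩⟩
    · have h1 : ∀ a : {v // ∀ a, φ v a = 1}, a.1 = 0 := by
        intro a
        refine S.nd a.1 fun w => ?_
        rw [S.symm]
        exact (hχ' _).1 (a.2 w)
      exact Subtype.ext ((h1 a).trans (h1 b).symm)
    · change χ (S.B w 0) = 1
      rw [S.zero_right, AddChar.map_zero_eq_one]
  have h1 := card_ann φ (fun v w a => by
    change χ (S.B a (v + w)) = _
    rw [S.add_right, AddChar.map_add_eq_mul]
    rfl) h0 (by rw [one_mul]) C
  rw [one_mul] at h1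
  rw [← h1]
  refine Nat.card_congr (Equiv.subtypeEquivRight fun v => ?_)
  refine forall_congr' fun w => forall_congr' fun _ => ?_
  exact (hχ' _).symm

/-- The annihilator of a subgroup, as a subgroup. -/
def perp (C : AddSubgroup V) : AddSubgroup V where
  carrier := {v | ∀ w ∈ C, S.B w v = 0}
  zero_mem' := fun w _ => S.zero_right w
  add_mem' := by
    intro a b ha hb w hw
    rw [S.add_right, ha w hw, hb w hw, add_zero]
  neg_mem' := by
    intro a ha w hw
    rw [S.neg_eq]
    exact ha w hw

theorem mem_perp {C : AddSubgroup V} {v : V} : v ∈ S.perp C ↔ ∀ w ∈ C, S.B w v = 0 := Iff.rfl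

theorem card_perp' [Finite V] (C : AddSubgroup V) : Nat.card (S.perp C) = C.index :=
  S.card_perp C

theorem perp_perp [Finite V] (C : AddSubgroup V) : S.perp (S.perp C) = C := by
  symm
  apply AddSubgroup.eq_of_le_of_card_ge
  · intro c hc v hv
    rw [S.symm]
    exact hv c hc
  · rw [S.card_perp']
    have h1 := C.card_mul_index
    have h2 := (S.perp C).card_mul_index
    rw [S.card_perp'] at h2
    have h3 : 0 < C.index := Nat.pos_of_ne_zero AddSubgroup.index_ne_zero_of_finite
    rw [← h1, mul_comm] at h2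
    exact (Nat.eq_of_mul_eq_mul_right h3 h2).le

/-- A totally singular subgroup is small. -/
theorem card_ts_le [Finite V] {b : ℕ} (hV : Nat.card V = 16 * b ^ 2) (C : AddSubgroup V)
    (hC : ∀ u ∈ C, ∀ w ∈ C, S.B u w = 0) : Nat.card C ≤ 4 * b := by
  have h1 : C ≤ S.perp C := fun c hc w hw => hC w hw c hc
  have h2 : Nat.card C ≤ Nat.card (S.perp C) := AddSubgroup.card_le_of_le h1
  rw [S.card_perp'] at h2
  have h3 := C.card_mul_index
  rw [hV] at h3
  by_contra hcon
  push Not at hcon
  nlinarith

/-- A family of subspaces of `e`-perp containing `e`, invariant under the stabilizer of `e`. -/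
structure Fam (e : V) (O : Type*) where
  U : O → V → Prop
  zero : ∀ o, U o 0
  e_mem : ∀ o, U o e
  add : ∀ o u w, U o u → U o w → U o (u + w)
  perp : ∀ o w, U o w → S.B e w = 0
  conj : ∀ g : G, g • e = e → ∃ π : O ≃ O, ∀ o w, U (π o) (g • w) ↔ U o w

namespace Fam

variable {S} {e : V} {O : Type*} (M : S.Fam e O)

/-- The subgroup. -/
def Us (o : O) : AddSubgroup V where
  carrier := {w | M.U o w}
  zero_mem' := M.zero o
  add_mem' := fun ha hb => M.add o _ _ ha hb
  neg_mem' := by
    intro a ha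
    rw [S.neg_eq]
    exact ha

theorem mem_Us {o : O} {w : V} : w ∈ M.Us o ↔ M.U o w := Iff.rfl

/-- The whole of `e`-perp. -/
def full (o : O) : Prop := ∀ w, S.B e w = 0 → M.U o w

theorem full_conj {g : G} {π : O ≃ O} (hπ : ∀ o w, M.U (π o) (g • w) ↔ M.U o w)
    (he : g • e = e) (o : O) : M.full (π o) ↔ M.full o := by
  constructor
  · intro h w hw
    rw [← hπ]
    apply h
    have := S.inv g e w
    rw [he] at this
    rw [this, hw]
  · intro h w hw
    have h1 := hπ o (g⁻¹ • w)
    rw [smul_inv_smul] at h1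
    rw [h1]
    apply h
    have := S.inv g e (g⁻¹ • w)
    rw [he, smul_inv_smul] at this
    rw [← this, hw]

/-- Transport of a nonfull member. -/
theorem cover {P : V → V → Prop} (hP : ∀ u w u' w', P u w → P u' w' →
    ∃ g : G, g • e = e ∧ g • u = u' ∧ g • w = w') {o₀ : O} (h0 : ¬ M.full o₀) {u₀ w₀ : V}
    (hu₀ : M.U o₀ u₀) (hw₀ : M.U o₀ w₀) (hP₀ : P u₀ w₀) {u w : V} (h : P u w) :
    ∃ o, ¬ M.full o ∧ M.U o u ∧ M.U o w := by
  obtain ⟨g, hge, hgu, hgw⟩ := hP u₀ w₀ u w hP₀ h
  obtain ⟨π, hπ⟩ := M.conj g hge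
  refine ⟨π o₀, ?_, ?_, ?_⟩
  · rw [M.full_conj hπ hge]
    exact h0
  · rw [← hgu, hπ]
    exact hu₀
  · rw [← hgw, hπ]
    exact hw₀

section Count

variable [Fintype V] [Fintype O]

open Classical in
/-- The number of members containing `w`. -/
noncomputable def kap (w : V) : ℕ := (Finset.univ.filter fun o => M.U o w).card

theorem kap_conj {g : G} (hg : g • e = e) (w : V) : M.kap (g • w) = M.kap w := by
  classical
  obtain ⟨π, hπ⟩ := M.conj g hg
  unfold kap
  symm
  refine Finset.card_bij (fun o _ => π o) ?_ ?_ ?_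
  · intro o ho
    simp only [Finset.mem_filter, Finset.mem_univ, true_and] at ho ⊢
    exact (hπ o w).2 ho
  · intro o _ o' _ h
    exact π.injective h
  · intro o ho
    simp only [Finset.mem_filter, Finset.mem_univ, true_and] at ho
    refine ⟨π.symm o, ?_, π.apply_symm_apply o⟩
    simp only [Finset.mem_filter, Finset.mem_univ, true_and]
    rw [← hπ, π.apply_symm_apply]
    exact ho

/-- Double counting. -/
theorem sum_cnt (P : V → Prop) {c : ℕ} (hc : ∀ w, P w → c ≤ M.kap w) :
    c * cnt P ≤ ∑ o, cnt (fun w => M.U o w ∧ P w) := by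
  classical
  have h1 : ∑ o, cnt (fun w => M.U o w ∧ P w) =
      ∑ w ∈ Finset.univ.filter P, M.kap w := by
    have h2 : ∀ o, cnt (fun w => M.U o w ∧ P w) =
        ∑ w ∈ Finset.univ.filter P, if M.U o w then 1 else 0 := by
      intro o
      rw [← Finset.card_filter, Finset.filter_filter, cnt_eq]
      congr 1
      ext w
      simp only [Finset.mem_filter, Finset.mem_univ, true_and]
      exact and_comm
    have h3 : ∀ w, M.kap w = ∑ o, if M.U o w then 1 else 0 := by
      intro w
      rw [← Finset.card_filter]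
      unfold kap
      congr 1
    rw [Finset.sum_congr rfl fun o _ => h2 o, Finset.sum_comm,
      Finset.sum_congr rfl fun w _ => (h3 w).symm]
  rw [h1]
  have h4 : c * cnt P = ∑ w ∈ Finset.univ.filter P, c := by
    rw [Finset.sum_const, smul_eq_mul, mul_comm, cnt_eq]
  rw [h4]
  refine Finset.sum_le_sum fun w hw => hc w ?_
  simpa using hw

/-- Covering. -/
theorem cover_count {P : V → V → Prop} (hP : ∀ u w u' w', P u w → P u' w' →
    ∃ g : G, g • e = e ∧ g • u = u' ∧ g • w = w') {o₀ : O} (h0 : ¬ M.full o₀) {u₀ w₀ : V}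
    (hu₀ : M.U o₀ u₀) (hw₀ : M.U o₀ w₀) (hP₀ : P u₀ w₀) (u : V) {m : ℕ}
    (hm : ∀ o, ¬ M.full o → M.U o u → cnt (fun w => M.U o w ∧ P u w) ≤ m) :
    cnt (P u) ≤ M.kap u * m := by
  classical
  have h1 : (Finset.univ.filter (P u)) ⊆
      (Finset.univ.filter fun o => ¬ M.full o ∧ M.U o u).biUnion
        (fun o => Finset.univ.filter fun w => M.U o w ∧ P u w) := by
    intro w hw
    simp only [Finset.mem_filter, Finset.mem_univ, true_and] at hw
    obtain ⟨o, ho1, ho2, ho3⟩ := M.cover hP h0 hu₀ hw₀ hP₀ hw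
    rw [Finset.mem_biUnion]
    refine ⟨o, ?_, ?_⟩
    · simp only [Finset.mem_filter, Finset.mem_univ, true_and]
      exact ⟨ho1, ho2⟩
    · simp only [Finset.mem_filter, Finset.mem_univ, true_and]
      exact ⟨ho3, hw⟩
  have h2 := Finset.card_le_card h1
  have h3 := Finset.card_biUnion_le_card_mul
    (Finset.univ.filter fun o => ¬ M.full o ∧ M.U o u)
    (fun o => Finset.univ.filter fun w => M.U o w ∧ P u w) m (by
      intro o ho
      simp only [Finset.mem_filter, Finset.mem_univ, true_and] at ho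
      rw [← cnt_eq]
      exact hm o ho.1 ho.2)
  have h4 : (Finset.univ.filter fun o => ¬ M.full o ∧ M.U o u).card ≤ M.kap u := by
    unfold kap
    apply Finset.card_le_card
    intro o ho
    simp only [Finset.mem_filter, Finset.mem_univ, true_and] at ho ⊢
    exact ho.2
  calc cnt (P u) = (Finset.univ.filter (P u)).card := cnt_eq _
    _ ≤ _ := h2.trans (h3.trans (Nat.mul_le_mul_right _ h4))

theorem card_Us (o : O) : Nat.card (M.Us o) = cnt (M.U o) := by
  classical
  rw [Nat.card_eq_fintype_card, cnt_eq]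
  change Fintype.card {w // w ∈ M.Us o} = _
  rw [Fintype.card_subtype]
  rfl

end Count

end Fam

end Op2

end Cfsg.Agent.H79.MinIdxOP2
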