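import Mathlib
import Cfsg.Agent.H79.MinIdxOP2.Fam

/-!
# The dichotomy for invariant families of small total order
-/

set_option autoImplicit false
set_option linter.unusedSectionVars false

namespace Cfsg.Agent.H79.MinIdxOP2

open Cfsg.Agent.H79.OrbitDual

namespace Op2

variable {F V G : Type*} [Field F] [AddCommGroup V] [Module F V] [Group G]
    [DistribMulAction G V] {S : Op2 F V G}

theorem imp_of_cnt_le [Fintype V] {P R : V → Prop} (h : ∀ v, P v → R v) (hc : cnt R ≤ cnt P) :
    ∀ v, R v → P v := by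
  classical
  rw [cnt_eq, cnt_eq] at hc
  have h1 : Finset.univ.filter P = Finset.univ.filter R := by
    refine Finset.eq_of_subset_of_card_le ?_ hc
    intro v hv
    simp only [Finset.mem_filter, Finset.mem_univ, true_and] at hv ⊢
    exact h v hv
  intro v hv
  have h2 : v ∈ Finset.univ.filter R := by simpa using hv
  rw [← h1] at h2
  simpa using h2

namespace Fam

variable {e : V} {O : Type*} {M : S.Fam e O} [Fintype V] [Fintype O]

/-- Numerical hypotheses. -/
structure Num (M : S.Fam e O) (b k : ℕ) : Prop where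
  hb : b = 2 ^ k
  hk : 2 ≤ k
  hV : Fintype.card V = 16 * b ^ 2
  hQ : cnt (fun v => S.Q v = 0) = 8 * b ^ 2 + 2 * b
  he : e ≠ 0
  hQe : S.Q e = 0
  hT : ∑ o, cnt (M.U o) + 4 * b < 16 * b ^ 2

namespace Num

variable {b k : ℕ} (N : M.Num b k)

include N

theorem b4 : 4 ≤ b := by
  rw [N.hb]
  calc 4 = 2 ^ 2 := by norm_num
    _ ≤ 2 ^ k := Nat.pow_le_pow_right (by norm_num) N.hk

theorem kap_eq {w w' : V} (hw : w ≠ 0) (hwe : w ≠ e) (hew : S.B e w = 0) (hw' : w' ≠ 0)
    (hwe' : w' ≠ e) (hew' : S.B e w' = 0) (hQ : S.Q w = S.Q w') : M.kap w = M.kap w' := by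
  obtain ⟨g, h1, h2⟩ := S.wit2 e w e w' N.he hw hwe N.he hw' hwe' rfl hQ (by rw [hew, hew'])
  rw [← h2, M.kap_conj h1]

theorem sum_le (P : V → Prop) {c : ℕ} (hc : ∀ w, P w → c ≤ M.kap w) :
    c * cnt P + 4 * b < 16 * b ^ 2 := by
  have h1 := M.sum_cnt P hc
  have h2 : ∑ o, cnt (fun w => M.U o w ∧ P w) ≤ ∑ o, cnt (M.U o) :=
    Finset.sum_le_sum fun o _ => cnt_mono fun w hw => hw.1
  have h3 := N.hT
  omega

theorem kap_sing {v : V} (hv : v ≠ 0) (hve : v ≠ e) (hev : S.B e v = 0) (hQv : S.Q v = 0) :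
    M.kap v ≤ 3 := by
  classical
  by_contra hcon
  push Not at hcon
  have h1 := N.sum_le (fun w => (S.B e w = 0 ∧ S.Q w = 0) ∧ w ∉ ({0, e} : Finset V)) (c := 4)
    (fun w hw => by
      simp only [Finset.mem_insert, Finset.mem_singleton, not_or] at hw
      rw [← N.kap_eq hv hve hev hw.2.1 hw.2.2 hw.1.1 (by rw [hQv, hw.1.2])]
      omega)
  have h2 := cnt_le_add (fun w => S.B e w = 0 ∧ S.Q w = 0) ({0, e} : Finset V)
  have h3 : ({0, e} : Finset V).card ≤ 2 := Finset.card_le_two
  rw [(S.cnt_sing N.hV N.hQ N.he N.hQe).1] at h2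
  have h4 := N.b4
  nlinarith

theorem kap_ns {v : V} (hev : S.B e v = 0) (hQv : S.Q v = 1) : M.kap v ≤ 4 := by
  have key : ∀ w, S.Q w = 1 → w ≠ 0 ∧ w ≠ e := by
    intro w hw
    constructor
    · rintro rfl
      rw [S.Q_zero] at hw
      exact zero_ne_one hw
    · rintro rfl
      rw [N.hQe] at hw
      exact zero_ne_one hw
  by_contra hcon
  push Not at hcon
  have h1 := N.sum_le (fun w => S.B e w = 0 ∧ S.Q w = 1) (c := 5)
    (fun w hw => by
      rw [← N.kap_eq (key v hQv).1 (key v hQv).2 hev (key w hw.2).1 (key w hw.2).2 hw.1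
        (by rw [hQv, hw.2])]
      omega)
  rw [(S.cnt_sing N.hV N.hQ N.he N.hQe).2] at h1
  have h4 := N.b4
  have h5 : 2 * b ≤ 4 * b ^ 2 := by nlinarith
  zify [h5] at h1
  nlinarith

theorem card_pow (o : O) : ∃ j, cnt (M.U o) = 2 ^ j := by
  rw [← M.card_Us]
  have h1 : Nat.card (M.Us o) ∣ Nat.card V := AddSubgroup.card_addSubgroup_dvd_card _
  have h2 : Nat.card V = 2 ^ (2 * k + 4) := by
    rw [Nat.card_eq_fintype_card, N.hV, N.hb]
    ring
  rw [h2] at h1
  obtain ⟨j, -, hj⟩ := (Nat.dvd_prime_pow Nat.prime_two).1 h1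
  exact ⟨j, hj⟩

theorem half_or {o : O} (h : ¬ M.full o) : cnt (M.U o) = 4 * b ^ 2 ∨ cnt (M.U o) ≤ 2 * b ^ 2 := by
  have h1 : cnt (M.U o) < 8 * b ^ 2 := by
    by_contra hcon
    push Not at hcon
    apply h
    intro w hw
    exact imp_of_cnt_le (P := M.U o) (R := fun w => S.B e w = 0) (M.perp o)
      (by rw [(S.cnt_perp N.hV N.he).1]; exact hcon) w hw
  obtain ⟨j, hj⟩ := N.card_pow o
  have h2 : b ^ 2 = 2 ^ (2 * k) := by rw [N.hb]; ring
  rw [hj, h2] at h1 ⊢
  have h3 : (8 : ℕ) * 2 ^ (2 * k) = 2 ^ (2 * k + 3) := by ring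
  have h4 : (4 : ℕ) * 2 ^ (2 * k) = 2 ^ (2 * k + 2) := by ring
  have h5 : (2 : ℕ) * 2 ^ (2 * k) = 2 ^ (2 * k + 1) := by ring
  rw [h3] at h1
  rw [h4, h5]
  have h6 : j < 2 * k + 3 := (Nat.pow_lt_pow_iff_right (by norm_num)).1 h1
  rcases Nat.lt_or_ge (2 * k + 1) j with h7 | h7
  · left
    congr 1
    omega
  · right
    exact Nat.pow_le_pow_right (by norm_num) h7

/-- No member is a hyperplane of `e`-perp. -/
theorem not_half {o : O} (h : ¬ M.full o) : cnt (M.U o) ≠ 4 * b ^ 2 := by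
  classical
  intro ho
  have hb4 := N.b4
  -- the vector `z`
  have h1 : Nat.card (S.perp (M.Us o)) = 4 := by
    have h2 := (M.Us o).card_mul_index
    rw [S.card_perp', ]
    rw [M.card_Us, ho, Nat.card_eq_fintype_card, N.hV] at h2
    nlinarith
  obtain ⟨z, hz, hz0, hze⟩ : ∃ z ∈ S.perp (M.Us o), z ≠ 0 ∧ z ≠ e := by
    by_contra hcon
    push Not at hcon
    have h2 : Nat.card (S.perp (M.Us o)) ≤ 2 := by
      have h3 : ((S.perp (M.Us o) : Set V)) ⊆ ((({0, e} : Finset V)) : Set V) := by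
        intro v hv
        by_cases hv0 : v = 0
        · simp [hv0]
        · simp [hcon v hv hv0]
      have h4 := Set.ncard_le_ncard h3 (Finset.finite_toSet _)
      rw [Set.ncard_coe_finset] at h4
      exact h4.trans Finset.card_le_two
    omega
  have hU : ∀ w, M.U o w ↔ (S.B e w = 0 ∧ S.B z w = 0) := by
    intro w
    constructor
    · intro hw
      exact ⟨M.perp o w hw, by rw [S.symm]; exact hz w hw⟩
    · exact imp_of_cnt_le (P := M.U o) (R := fun w => S.B e w = 0 ∧ S.B z w = 0)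
        (fun w hw => ⟨M.perp o w hw, by rw [S.symm]; exact hz w hw⟩)
        (by rw [(S.cnt_two N.hV N.he hz0 hze).1, ho]) w
  have hez : S.B e z = 0 := hz e (M.e_mem o)
  -- the class of `z`
  set T : Finset V := {0, e} with hT
  set C : Finset V := Finset.univ.filter
    (fun w => (S.B e w = 0 ∧ S.Q w = S.Q z) ∧ w ∉ T) with hC
  have hCc : 4 * b ^ 2 ≤ C.card + 2 * b := by
    have h2 := cnt_le_add (fun w => S.B e w = 0 ∧ S.Q w = S.Q z) T
    have h3 : T.card ≤ 2 := Finset.card_le_two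
    have h5 : cnt (fun w => (S.B e w = 0 ∧ S.Q w = S.Q z) ∧ w ∉ T) = C.card := cnt_eq _
    rcases S.two (S.Q z) with h4 | h4
    · rw [h5, h4, (S.cnt_sing N.hV N.hQ N.he N.hQe).1] at h2
      omega
    · have h6 : cnt (fun w => (S.B e w = 0 ∧ S.Q w = S.Q z) ∧ w ∉ T) =
          cnt (fun w => S.B e w = 0 ∧ S.Q w = 1) := by
        apply cnt_congr
        intro w
        rw [h4]
        refine ⟨fun h => h.1, fun h => ⟨h, ?_⟩⟩
        rw [hT, Finset.mem_insert, Finset.mem_singleton, not_or]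
        constructor
        · rintro rfl
          rw [S.Q_zero] at h
          exact zero_ne_one h.2
        · rintro rfl
          rw [N.hQe] at h
          exact zero_ne_one h.2
      rw [← h5, h6, (S.cnt_sing N.hV N.hQ N.he N.hQe).2]
      omega
  -- the members
  have hf : ∀ w : V, ∃ o' : O, w ∈ C → ∀ u, M.U o' u ↔ (S.B e u = 0 ∧ S.B w u = 0) := by
    intro w
    by_cases hw : w ∈ C
    · rw [hC] at hw
      simp only [Finset.mem_filter, Finset.mem_univ, true_and] at hw
      rw [hT, Finset.mem_insert, Finset.mem_singleton, not_or] at hw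
      obtain ⟨g, hg1, hg2⟩ := S.wit2 e z e w N.he hz0 hze N.he hw.2.1 hw.2.2 rfl hw.1.2.symm
        (by rw [hez, hw.1.1])
      obtain ⟨π, hπ⟩ := M.conj g hg1
      refine ⟨π o, fun _ u => ?_⟩
      have h2 := hπ o (g⁻¹ • u)
      rw [smul_inv_smul] at h2
      rw [h2, hU, ← S.inv_left, ← S.inv_left, hg1, hg2]
    · exact ⟨o, fun h => absurd h hw⟩
  choose f hf using hf
  have h2 : C.card ≤ 2 * (C.image f).card := by
    refine Finset.card_le_mul_card_image C 2 ?_
    intro o' ho'
    rw [Finset.mem_image] at ho'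
    obtain ⟨w, hw, rfl⟩ := ho'
    have h3 : C.filter (fun x => f x = f w) ⊆ ({w, w + e} : Finset V) := by
      intro x hx
      rw [Finset.mem_filter] at hx
      rw [Finset.mem_insert, Finset.mem_singleton]
      by_contra hcon
      rw [not_or] at hcon
      obtain ⟨y, hy1, hy2⟩ := S.sep (e := e) (z := x + w)
        (fun h => hcon.1 (S.add_eq_zero.1 h))
        (fun h => hcon.2 (S.add_eq_iff.1 h))
      have h4 := hf w hw y
      have h5 := hf x hx.1 y
      rw [hx.2, h4] at h5
      rw [S.add_left] at hy2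
      simp only [hy1, true_and] at h5
      rcases S.two (S.B w y) with h6 | h6
      · rw [h5.1 h6, h6, add_zero] at hy2
        exact zero_ne_one hy2
      · rcases S.two (S.B x y) with h7 | h7
        · rw [h5.2 h7] at h6
          exact zero_ne_one h6
        · rw [h6, h7, S.one_add_one] at hy2
          exact zero_ne_one hy2
    exact (Finset.card_le_card h3).trans Finset.card_le_two
  have h3 : (C.image f).card * (4 * b ^ 2) ≤ ∑ o', cnt (M.U o') := by
    rw [← smul_eq_mul, ← Finset.sum_const]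
    refine (Finset.sum_le_sum fun o' ho' => ?_).trans
      (Finset.sum_le_sum_of_subset (Finset.subset_univ (C.image f)))
    rw [Finset.mem_image] at ho'
    obtain ⟨w, hw, rfl⟩ := ho'
    have h4 := hf w hw
    rw [cnt_congr h4]
    rw [hC] at hw
    simp only [Finset.mem_filter, Finset.mem_univ, true_and] at hw
    rw [hT, Finset.mem_insert, Finset.mem_singleton, not_or] at hw
    exact (S.cnt_two N.hV N.he hw.2.1 hw.2.2).1.ge
  have h4 := N.hT
  have h5 : 4 ≤ (C.image f).card := by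
    by_contra hcon
    push Not at hcon
    have h7 : C.card ≤ 6 := by omega
    nlinarith
  nlinarith

end Num

end Fam

end Op2

end Cfsg.Agent.H79.MinIdxOP2
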