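import Mathlib
import Cfsg.Agent.H79.MinIdxOP2.Dich

/-!
# The members of an invariant family of small total order
-/

set_option autoImplicit false
set_option linter.unusedSectionVars false

namespace Cfsg.Agent.H79.MinIdxOP2

open Cfsg.Agent.H79.OrbitDual

namespace Op2

variable {F V G : Type*} [Field F] [AddCommGroup V] [Module F V] [Group G]
    [DistribMulAction G V] {S : Op2 F V G}

theorem cnt_sub [Fintype V] {P : V → Prop} {T : Finset V} (hT : ∀ v ∈ T, P v) :
    cnt (fun v => P v ∧ v ∉ T) + T.card ≤ cnt P := by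
  classical
  rw [← cnt_split P (fun v => v ∉ T)]
  apply Nat.add_le_add_left
  rw [cnt_eq]
  apply Finset.card_le_card
  intro v hv
  simp only [Finset.mem_filter, Finset.mem_univ, true_and, not_not]
  exact ⟨hT v hv, hv⟩

theorem cnt_le_card [Fintype V] {P : V → Prop} {T : Finset V} (hT : ∀ v, P v → v ∈ T) :
    cnt P ≤ T.card := by
  classical
  rw [cnt_eq]
  apply Finset.card_le_card
  intro v hv
  exact hT v (by simpa using hv)

theorem cnt_eq_zero [Fintype V] {P : V → Prop} (h : ∀ v, ¬ P v) : cnt P = 0 := by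
  classical
  rw [cnt_eq, Finset.card_eq_zero, Finset.filter_eq_empty_iff]
  intro v _
  exact h v

include S in
theorem four_distinct [DecidableEq V] {e v : V} (he : e ≠ 0) (hv : v ≠ 0) (hve : v ≠ e) :
    ({0, e, v, e + v} : Finset V).card = 4 := by
  have h1 : e + v ≠ 0 := fun h => hve (S.add_eq_zero.1 h).symm
  have h2 : e ≠ e + v := fun h => hv (left_eq_add.1 h)
  have h3 : v ≠ e + v := fun h => he (right_eq_add.1 h)
  rw [Finset.card_insert_of_notMem, Finset.card_insert_of_notMem, Finset.card_insert_of_notMem,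
    Finset.card_singleton]
  · simpa using h3
  · simp only [Finset.mem_insert, Finset.mem_singleton, not_or]
    exact ⟨hve.symm, h2⟩
  · simp only [Finset.mem_insert, Finset.mem_singleton, not_or]
    exact ⟨he.symm, hv.symm, h1.symm⟩

namespace Fam

variable {e : V} {O : Type*} {M : S.Fam e O} [Fintype V] [Fintype O]

/-- Covering, with the sum of the contributions. -/
theorem cover_sum {P : V → V → Prop} (hP : ∀ u w u' w', P u w → P u' w' →
    ∃ g : G, g • e = e ∧ g • u = u' ∧ g • w = w') {o₀ : O} (h0 : ¬ M.full o₀) {u₀ w₀ : V}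
    (hu₀ : M.U o₀ u₀) (hw₀ : M.U o₀ w₀) (hP₀ : P u₀ w₀) (u : V) {m : ℕ}
    (hm : ∀ o, ¬ M.full o → M.U o u → cnt (fun w => M.U o w ∧ P u w) ≤ m) {o₁ : O}
    (h1 : ¬ M.full o₁) (h1u : M.U o₁ u) :
    cnt (P u) + m ≤ M.kap u * m + cnt (fun w => M.U o₁ w ∧ P u w) := by
  classical
  set s := Finset.univ.filter fun o => ¬ M.full o ∧ M.U o u with hs
  have h2 : (Finset.univ.filter (P u)) ⊆
      s.biUnion (fun o => Finset.univ.filter fun w => M.U o w ∧ P u w) := by
    intro w hw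
    simp only [Finset.mem_filter, Finset.mem_univ, true_and] at hw
    obtain ⟨o, ho1, ho2, ho3⟩ := M.cover hP h0 hu₀ hw₀ hP₀ hw
    rw [Finset.mem_biUnion]
    refine ⟨o, ?_, ?_⟩
    · rw [hs]
      simp only [Finset.mem_filter, Finset.mem_univ, true_and]
      exact ⟨ho1, ho2⟩
    · simp only [Finset.mem_filter, Finset.mem_univ, true_and]
      exact ⟨ho3, hw⟩
  have h3 := (Finset.card_le_card h2).trans Finset.card_biUnion_le
  have h4 : s.card ≤ M.kap u := by
    unfold kap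
    apply Finset.card_le_card
    intro o ho
    rw [hs] at ho
    simp only [Finset.mem_filter, Finset.mem_univ, true_and] at ho ⊢
    exact ho.2
  have h5 : o₁ ∈ s := by
    rw [hs]
    simp only [Finset.mem_filter, Finset.mem_univ, true_and]
    exact ⟨h1, h1u⟩
  rw [← Finset.add_sum_erase s _ h5, ← cnt_eq, ← cnt_eq] at h3
  have h6 : ∑ o ∈ s.erase o₁, (Finset.univ.filter fun w => M.U o w ∧ P u w).card ≤
      (s.erase o₁).card * m := by
    rw [← smul_eq_mul]
    refine Finset.sum_le_card_nsmul _ _ _ fun o ho => ?_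
    have h7 := Finset.mem_of_mem_erase ho
    rw [hs] at h7
    simp only [Finset.mem_filter, Finset.mem_univ, true_and] at h7
    rw [← cnt_eq]
    exact hm o h7.1 h7.2
  have h8 : (s.erase o₁).card + 1 = s.card := Finset.card_erase_add_one h5
  have h9 : (s.erase o₁).card * m + m ≤ M.kap u * m := by
    rw [← Nat.succ_mul]
    exact Nat.mul_le_mul_right _ (by omega)
  omega

namespace Num

variable {b k : ℕ} (N : M.Num b k)

include N

theorem quarter {o : O} {v : V} (hv : M.U o v) (hQv : S.Q v = 0) :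
    4 * cnt (fun w => M.U o w ∧ S.B v w = 1 ∧ S.Q w = 0) ≤ cnt (M.U o) := by
  by_cases hne : ∃ w, M.U o w ∧ S.B v w = 1
  · obtain ⟨w₀, hw₀, hvw₀⟩ := hne
    have h1 : cnt (fun w => (M.U o w ∧ S.B v w = 1) ∧ S.Q w = 0) =
        cnt (fun w => (M.U o w ∧ S.B v w = 1) ∧ S.Q w = 1) := by
      refine S.cnt_shift v (fun w hw => ?_) (fun w hw => ?_)
      · refine ⟨⟨M.add o _ _ hw.1.1 hv, ?_⟩, ?_⟩
        · rw [S.add_right, S.self, add_zero, hw.1.2]
        · rw [S.Q_add, hw.2, hQv, S.symm w v, hw.1.2, add_zero, zero_add]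
      · refine ⟨⟨M.add o _ _ hw.1.1 hv, ?_⟩, ?_⟩
        · rw [S.add_right, S.self, add_zero, hw.1.2]
        · rw [S.Q_add, hw.2, hQv, S.symm w v, hw.1.2, add_zero, S.one_add_one]
    have h2 := S.cnt_Q (fun w => M.U o w ∧ S.B v w = 1)
    have h3 : cnt (fun w => M.U o w ∧ S.B v w = 0) = cnt (fun w => M.U o w ∧ S.B v w = 1) := by
      refine S.cnt_shift w₀ (fun w hw => ?_) (fun w hw => ?_)
      · refine ⟨M.add o _ _ hw.1 hw₀, ?_⟩
        rw [S.add_right, hw.2, hvw₀, zero_add]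
      · refine ⟨M.add o _ _ hw.1 hw₀, ?_⟩
        rw [S.add_right, hw.2, hvw₀, S.one_add_one]
    have h4 := S.cnt_B (M.U o) v
    rw [cnt_congr (R := fun w => (M.U o w ∧ S.B v w = 1) ∧ S.Q w = 0) (fun w => and_assoc.symm)]
    omega
  · rw [cnt_eq_zero (P := fun w => M.U o w ∧ S.B v w = 1 ∧ S.Q w = 0)
      (fun w hw => hne ⟨w, hw.1, hw.2.1⟩)]
    omega

/-- A nonfull member containing the singular vector `v` is contained in `v`-perp. -/
theorem stepA {o : O} (h : ¬ M.full o) {v w : V} (hv : M.U o v) (hv0 : v ≠ 0) (hve : v ≠ e)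
    (hQv : S.Q v = 0) (hw : M.U o w) : S.B v w = 0 := by
  by_contra hcon
  rw [← ne_eq, S.ne_zero] at hcon
  obtain ⟨w', hw', hvw', hQw'⟩ : ∃ w', M.U o w' ∧ S.B v w' = 1 ∧ S.Q w' = 0 := by
    rcases S.two (S.Q w) with h1 | h1
    · exact ⟨w, hw, hcon, h1⟩
    · refine ⟨w + v, M.add o _ _ hw hv, ?_, ?_⟩
      · rw [S.add_right, S.self, add_zero, hcon]
      · rw [S.Q_add, h1, hQv, S.symm w v, hcon, add_zero, S.one_add_one]
  have hcov := M.cover_count
    (P := fun u w => (u ≠ 0 ∧ u ≠ e ∧ S.B e u = 0 ∧ S.Q u = 0) ∧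
      (S.B e w = 0 ∧ S.B u w = 1 ∧ S.Q w = 0)) (by
      have key : ∀ u w : V, S.B e u = 0 → S.B u w = 1 → w ≠ 0 ∧ w ≠ e ∧ w ≠ u ∧ w ≠ e + u := by
        intro u w h1 h2
        refine ⟨?_, ?_, ?_, ?_⟩
        · rintro rfl
          rw [S.zero_right] at h2
          exact zero_ne_one h2
        · rintro rfl
          rw [S.symm, h1] at h2
          exact zero_ne_one h2
        · rintro rfl
          rw [S.self] at h2
          exact zero_ne_one h2
        · rintro rfl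
          rw [S.add_right, S.self, S.symm, h1, add_zero] at h2
          exact zero_ne_one h2
      rintro u w u' w' ⟨⟨h1, h2, h3, h4⟩, h5, h6, h7⟩ ⟨⟨h1', h2', h3', h4'⟩, h5', h6', h7'⟩
      obtain ⟨k1, k2, k3, k4⟩ := key u w h3 h6
      obtain ⟨k1', k2', k3', k4'⟩ := key u' w' h3' h6'
      exact S.wit3 e u w e u' w' N.he h1 h2 k1 k2 k3 k4 N.he h1' h2' k1' k2' k3' k4' rfl
        (by rw [h4, h4']) (by rw [h7, h7']) (by rw [h3, h3']) (by rw [h5, h5'])
        (by rw [h6, h6']))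
    h hv hw' ⟨⟨hv0, hve, M.perp o v hv, hQv⟩, M.perp o w' hw', hvw', hQw'⟩ v
    (m := b ^ 2 / 2) (by
      intro o' ho' hvo'
      have h1 := N.quarter hvo' hQv
      have h2 := (N.half_or ho').resolve_left (N.not_half ho')
      have h3 : cnt (fun w => M.U o' w ∧ (v ≠ 0 ∧ v ≠ e ∧ S.B e v = 0 ∧ S.Q v = 0) ∧
          (S.B e w = 0 ∧ S.B v w = 1 ∧ S.Q w = 0)) ≤
          cnt (fun w => M.U o' w ∧ S.B v w = 1 ∧ S.Q w = 0) :=
        cnt_mono fun w hw => ⟨hw.1, hw.2.2.2.1, hw.2.2.2.2⟩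
      omega)
  have h1 : cnt (fun w => S.B e w = 0 ∧ S.B v w = 1 ∧ S.Q w = 0) ≤
      cnt (fun w => (v ≠ 0 ∧ v ≠ e ∧ S.B e v = 0 ∧ S.Q v = 0) ∧
      (S.B e w = 0 ∧ S.B v w = 1 ∧ S.Q w = 0)) :=
    cnt_mono fun w hw => ⟨⟨hv0, hve, M.perp o v hv, hQv⟩, hw⟩
  rw [S.cnt_hyp N.hV N.he hv0 hve hQv (M.perp o v hv)] at h1
  have h2 : M.kap v * (b ^ 2 / 2) ≤ 3 * (b ^ 2 / 2) :=
    Nat.mul_le_mul_right _ (N.kap_sing hv0 hve (M.perp o v hv) hQv)
  have h3 : 16 ≤ b ^ 2 := by nlinarith [N.b4]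
  have h4 := h1.trans (hcov.trans h2)
  omega

theorem orth {o : O} (h : ¬ M.full o) {v w : V} (hv : M.U o v) (hQv : S.Q v = 0)
    (hw : M.U o w) : S.B v w = 0 := by
  by_cases hv0 : v = 0
  · rw [hv0, S.zero_left]
  by_cases hve : v = e
  · rw [hve]
    exact M.perp o w hw
  exact N.stepA h hv hv0 hve hQv hw

theorem card_sing {o : O} (h : ¬ M.full o) : cnt (fun w => M.U o w ∧ S.Q w = 0) ≤ 4 * b := by
  classical
  let C : AddSubgroup V := {
    carrier := {w | M.U o w ∧ S.Q w = 0}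
    zero_mem' := ⟨M.zero o, S.Q_zero⟩
    add_mem' := by
      rintro u w ⟨hu, hQu⟩ ⟨hw, hQw⟩
      exact ⟨M.add o _ _ hu hw, by rw [S.Q_add, hQu, hQw, N.orth h hu hQu hw, add_zero, add_zero]⟩
    neg_mem' := by
      intro u hu
      rw [S.neg_eq]
      exact hu }
  have h1 := S.card_ts_le (b := b) (by rw [Nat.card_eq_fintype_card, N.hV]) C
    (fun u hu w hw => N.orth h hu.1 hu.2 hw.1)
  refine le_trans (le_of_eq ?_) h1
  rw [Nat.card_eq_fintype_card, cnt_eq]
  change _ = Fintype.card {w // w ∈ C}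
  rw [Fintype.card_subtype]
  congr 1
  ext w
  simp only [Finset.mem_filter, Finset.mem_univ, true_and]
  exact Iff.rfl

/-- The relation used in step B. -/
def PB (S : Op2 F V G) (e u w : V) : Prop := (u ≠ 0 ∧ u ≠ e ∧ S.B e u = 0 ∧ S.Q u = 0) ∧
      (S.B e w = 0 ∧ S.B u w = 0 ∧ S.Q w = 0 ∧ w ≠ 0 ∧ w ≠ e ∧ w ≠ u ∧ w ≠ e + u)

theorem PB_trans (u w u' w' : V) (h : PB S e u w) (h' : PB S e u' w') :
    ∃ g : G, g • e = e ∧ g • u = u' ∧ g • w = w' := by
  obtain ⟨⟨h1, h2, h3, h4⟩, h5, h6, h7, k1, k2, k3, k4⟩ := h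
  obtain ⟨⟨h1', h2', h3', h4'⟩, h5', h6', h7', k1', k2', k3', k4'⟩ := h'
  exact S.wit3 e u w e u' w' N.he h1 h2 k1 k2 k3 k4 N.he h1' h2' k1' k2' k3' k4' rfl
    (by rw [h4, h4']) (by rw [h7, h7']) (by rw [h3, h3']) (by rw [h5, h5']) (by rw [h6, h6'])

theorem cnt_PB {v : V} (hv0 : v ≠ 0) (hve : v ≠ e) (hQv : S.Q v = 0) (hev : S.B e v = 0) :
    2 * b ^ 2 + 2 * b ≤ cnt (PB S e v) + 4 := by
  classical
  have h2 := cnt_le_add (fun w => S.B e w = 0 ∧ S.B v w = 0 ∧ S.Q w = 0)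
    ({0, e, v, e + v} : Finset V)
  rw [S.cnt_ts N.hV N.hQ N.he N.hQe hv0 hve hQv hev] at h2
  have h3 : cnt (fun w => (S.B e w = 0 ∧ S.B v w = 0 ∧ S.Q w = 0) ∧
      w ∉ ({0, e, v, e + v} : Finset V)) ≤ cnt (PB S e v) := by
    apply cnt_mono
    rintro w ⟨⟨h4, h5, h6⟩, h7⟩
    simp only [Finset.mem_insert, Finset.mem_singleton, not_or] at h7
    exact ⟨⟨hv0, hve, hev, hQv⟩, h4, h5, h6, h7.1, h7.2.1, h7.2.2.1, h7.2.2.2⟩
  have h4 : ({0, e, v, e + v} : Finset V).card ≤ 4 := Finset.card_le_four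
  omega

theorem cnt_U_PB {o : O} (h : ¬ M.full o) {v : V} (hv0 : v ≠ 0) (hve : v ≠ e)
    (hQv : S.Q v = 0) (hv : M.U o v) :
    cnt (fun w => M.U o w ∧ PB S e v w) + 4 ≤ cnt (fun w => M.U o w ∧ S.Q w = 0) := by
  classical
  have h1 := cnt_sub (P := fun w => M.U o w ∧ S.Q w = 0) (T := ({0, e, v, e + v} : Finset V)) (by
    intro w hw
    simp only [Finset.mem_insert, Finset.mem_singleton] at hw
    rcases hw with rfl | rfl | rfl | rfl
    · exact ⟨M.zero o, S.Q_zero⟩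
    · exact ⟨M.e_mem o, N.hQe⟩
    · exact ⟨hv, hQv⟩
    · exact ⟨M.add o _ _ (M.e_mem o) hv, by
        rw [S.Q_add, N.hQe, hQv, M.perp o v hv, add_zero, add_zero]⟩)
  rw [four_distinct (S := S) N.he hv0 hve] at h1
  have h2 : cnt (fun w => M.U o w ∧ PB S e v w) ≤
      cnt (fun w => (M.U o w ∧ S.Q w = 0) ∧ w ∉ ({0, e, v, e + v} : Finset V)) := by
    apply cnt_mono
    rintro w ⟨h3, -, h4, h5, h6, h7, h8, h9, h10⟩
    simp only [Finset.mem_insert, Finset.mem_singleton, not_or]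
    exact ⟨⟨h3, h6⟩, h7, h8, h9, h10⟩
  omega

/-- The singular vectors of a nonfull member. -/
theorem stepB {o : O} (h : ¬ M.full o) {v w : V} (hv : M.U o v) (hv0 : v ≠ 0) (hve : v ≠ e)
    (hQv : S.Q v = 0) (hw : M.U o w) (hw0 : w ≠ 0) (hwe : w ≠ e) (hQw : S.Q w = 0) :
    w = v ∨ w = e + v := by
  by_contra hcon
  rw [not_or] at hcon
  have hP0 : PB S e v w := ⟨⟨hv0, hve, M.perp o v hv, hQv⟩, M.perp o w hw,
    N.stepA h hv hv0 hve hQv hw, hQw, hw0, hwe, hcon.1, hcon.2⟩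
  have hm : ∀ u, u ≠ 0 → u ≠ e → S.Q u = 0 → ∀ o, ¬ M.full o → M.U o u →
      cnt (fun w => M.U o w ∧ PB S e u w) ≤ 4 * b - 4 := by
    intro u hu0 hue hQu o ho hu
    have h1 := N.cnt_U_PB ho hu0 hue hQu hu
    have h2 := N.card_sing ho
    omega
  have hb4 := N.b4
  have h1 := M.cover_count (P := PB S e) N.PB_trans h hv hw hP0 v (hm v hv0 hve hQv)
  have h2 := N.cnt_PB hv0 hve hQv (M.perp o v hv)
  have h3 := N.kap_sing hv0 hve (M.perp o v hv) hQv
  have hb : b = 4 := by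
    by_contra hne
    have h4 : M.kap v * (4 * b - 4) ≤ 3 * (4 * b - 4) := Nat.mul_le_mul_right _ h3
    have h5 : 2 * b ^ 2 + 2 * b + 8 ≤ 12 * b := by omega
    have h6 : 5 ≤ b := by omega
    nlinarith
  -- every nonfull member with a nontrivial singular vector has 16 singular vectors
  have h16 : ∀ o, ¬ M.full o → ∀ u, M.U o u → u ≠ 0 → u ≠ e → S.Q u = 0 →
      16 ≤ cnt (fun w => M.U o w ∧ S.Q w = 0) := by
    intro o' ho' u hu hu0 hue hQu
    have h4 := M.cover_sum (P := PB S e) N.PB_trans h hv hw hP0 u (hm u hu0 hue hQu) ho' hu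
    have h5 := N.cnt_PB hu0 hue hQu (M.perp o' u hu)
    have h6 := N.kap_sing hu0 hue (M.perp o' u hu) hQu
    have h7 := N.cnt_U_PB ho' hu0 hue hQu hu
    have h8 : M.kap u * (4 * b - 4) ≤ 3 * (4 * b - 4) := Nat.mul_le_mul_right _ h6
    rw [hb] at h4 h5 h8
    omega
  have hk3 : M.kap v = 3 := by
    rw [hb] at h1 h2
    omega
  classical
  -- double counting
  have h4 := M.sum_cnt (fun w => (S.B e w = 0 ∧ S.Q w = 0) ∧ w ∉ ({0, e} : Finset V)) (c := 3)
    (fun w hw => by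
      simp only [Finset.mem_insert, Finset.mem_singleton, not_or] at hw
      rw [← N.kap_eq hv0 hve (M.perp o v hv) hw.2.1 hw.2.2 hw.1.1 (by rw [hQv, hw.1.2])]
      omega)
  have h5 := cnt_le_add (fun w => S.B e w = 0 ∧ S.Q w = 0) ({0, e} : Finset V)
  have h6 : ({0, e} : Finset V).card ≤ 2 := Finset.card_le_two
  rw [(S.cnt_sing N.hV N.hQ N.he N.hQe).1, hb] at h5
  have h7 : ∀ o', 16 * cnt (fun w => M.U o' w ∧ ((S.B e w = 0 ∧ S.Q w = 0) ∧
      w ∉ ({0, e} : Finset V))) ≤ 14 * cnt (M.U o') := by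
    intro o'
    by_cases hf : M.full o'
    · have h8 : cnt (M.U o') = 8 * b ^ 2 := by
        rw [← (S.cnt_perp N.hV N.he).1]
        exact cnt_congr fun w => ⟨M.perp o' w, hf w⟩
      have h9 : cnt (fun w => M.U o' w ∧ ((S.B e w = 0 ∧ S.Q w = 0) ∧
          w ∉ ({0, e} : Finset V))) ≤ cnt (fun w => S.B e w = 0 ∧ S.Q w = 0) :=
        cnt_mono fun w hw => hw.2.1
      rw [(S.cnt_sing N.hV N.hQ N.he N.hQe).1, hb] at h9
      rw [h8, hb]
      omega
    · by_cases hne : ∃ u, M.U o' u ∧ u ≠ 0 ∧ u ≠ e ∧ S.Q u = 0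
      · obtain ⟨u, hu, hu0, hue, hQu⟩ := hne
        have h8 := h16 o' hf u hu hu0 hue hQu
        have h9 : cnt (fun w => M.U o' w ∧ S.Q w = 0) ≤ cnt (M.U o') := cnt_mono fun w hw => hw.1
        have h10 := N.card_sing hf
        have h11 := cnt_sub (P := fun w => M.U o' w ∧ S.Q w = 0) (T := ({0, e} : Finset V)) (by
          intro w hw
          simp only [Finset.mem_insert, Finset.mem_singleton] at hw
          rcases hw with rfl | rfl
          · exact ⟨M.zero o', S.Q_zero⟩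
          · exact ⟨M.e_mem o', N.hQe⟩)
        have h12 : ({0, e} : Finset V).card = 2 := Finset.card_pair N.he.symm
        have h13 : cnt (fun w => M.U o' w ∧ ((S.B e w = 0 ∧ S.Q w = 0) ∧
          w ∉ ({0, e} : Finset V))) ≤ cnt (fun w => (M.U o' w ∧ S.Q w = 0) ∧
            w ∉ ({0, e} : Finset V)) := cnt_mono fun w hw => ⟨⟨hw.1, hw.2.1.2⟩, hw.2.2⟩
        rw [hb] at h10
        omega
      · rw [cnt_eq_zero (P := fun w => M.U o' w ∧ ((S.B e w = 0 ∧ S.Q w = 0) ∧
          w ∉ ({0, e} : Finset V)))]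
        · omega
        · rintro w ⟨h8, ⟨-, h9⟩, h10⟩
          simp only [Finset.mem_insert, Finset.mem_singleton, not_or] at h10
          exact hne ⟨w, h8, h10.1, h10.2, h9⟩
  have h8 : 16 * ∑ o', cnt (fun w => M.U o' w ∧ ((S.B e w = 0 ∧ S.Q w = 0) ∧
      w ∉ ({0, e} : Finset V))) ≤ 14 * ∑ o', cnt (M.U o') := by
    rw [Finset.mul_sum, Finset.mul_sum]
    exact Finset.sum_le_sum fun o' _ => h7 o'
  have h9 := N.hT
  rw [hb] at h9
  omega

/-- No nonfull member has a nontrivial singular vector and a nonsingular vector. -/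
theorem stepC {o : O} (h : ¬ M.full o) {n v : V} (hn : M.U o n) (hQn : S.Q n = 1)
    (hv : M.U o v) (hQv : S.Q v = 0) : v = 0 ∨ v = e := by
  classical
  by_contra hcon
  rw [not_or] at hcon
  have hcov := M.cover_count
    (P := fun u w => (S.B e u = 0 ∧ S.Q u = 1) ∧
      (S.B e w = 0 ∧ S.B u w = 0 ∧ S.Q w = 0) ∧ w ∉ ({0, e} : Finset V)) (by
      have key : ∀ u w : V, S.B e u = 0 → S.Q u = 1 → S.Q w = 0 →
          u ≠ 0 ∧ u ≠ e ∧ w ≠ u ∧ w ≠ e + u := by
        intro u w h0 h1 h2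
        refine ⟨?_, ?_, ?_, ?_⟩
        · rintro rfl
          rw [S.Q_zero] at h1
          exact zero_ne_one h1
        · rintro rfl
          rw [N.hQe] at h1
          exact zero_ne_one h1
        · rintro rfl
          rw [h1] at h2
          exact one_ne_zero h2
        · rintro rfl
          rw [S.Q_add, N.hQe, h1, h0, add_zero, zero_add] at h2
          exact one_ne_zero h2
      rintro u w u' w' ⟨⟨h1, h2⟩, ⟨h3, h4, h5⟩, h6⟩ ⟨⟨h1', h2'⟩, ⟨h3', h4', h5'⟩, h6'⟩
      simp only [Finset.mem_insert, Finset.mem_singleton, not_or] at h6 h6'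
      obtain ⟨k1, k2, k3, k4⟩ := key u w h1 h2 h5
      obtain ⟨k1', k2', k3', k4'⟩ := key u' w' h1' h2' h5'
      exact S.wit3 e u w e u' w' N.he k1 k2 h6.1 h6.2 k3 k4 N.he k1' k2' h6'.1 h6'.2 k3' k4' rfl
        (by rw [h2, h2']) (by rw [h5, h5']) (by rw [h1, h1']) (by rw [h3, h3'])
        (by rw [h4, h4']))
    h hn hv ⟨⟨M.perp o n hn, hQn⟩, ⟨M.perp o v hv, by rw [S.symm]; exact N.orth h hv hQv hn, hQv⟩,
      by simpa only [Finset.mem_insert, Finset.mem_singleton, not_or] using hcon⟩ n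
    (m := 2) (by
      intro o' ho' hno'
      by_cases hne : ∃ u, M.U o' u ∧ u ≠ 0 ∧ u ≠ e ∧ S.Q u = 0
      · obtain ⟨u, hu, hu0, hue, hQu⟩ := hne
        refine (cnt_le_card (T := ({u, e + u} : Finset V)) ?_).trans Finset.card_le_two
        rintro w ⟨h8, -, ⟨-, -, h9⟩, h10⟩
        simp only [Finset.mem_insert, Finset.mem_singleton, not_or] at h10 ⊢
        exact N.stepB ho' hu hu0 hue hQu h8 h10.1 h10.2 h9
      · rw [cnt_eq_zero]
        · omega
        · rintro w ⟨h8, -, ⟨-, -, h9⟩, h10⟩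
          simp only [Finset.mem_insert, Finset.mem_singleton, not_or] at h10
          exact hne ⟨w, h8, h10.1, h10.2, h9⟩)
  have h1 := cnt_le_add (fun w => S.B e w = 0 ∧ S.B n w = 0 ∧ S.Q w = 0) ({0, e} : Finset V)
  rw [(S.cnt_ns N.hV N.hQ N.he N.hQe hQn (M.perp o n hn)).1] at h1
  have h2 : ({0, e} : Finset V).card ≤ 2 := Finset.card_le_two
  have h3 : cnt (fun w => (S.B e w = 0 ∧ S.B n w = 0 ∧ S.Q w = 0) ∧ w ∉ ({0, e} : Finset V)) ≤
      cnt (fun w => (S.B e n = 0 ∧ S.Q n = 1) ∧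
      (S.B e w = 0 ∧ S.B n w = 0 ∧ S.Q w = 0) ∧ w ∉ ({0, e} : Finset V)) :=
    cnt_mono fun w hw => ⟨⟨M.perp o n hn, hQn⟩, hw⟩
  have h4 := N.kap_ns (M.perp o n hn) hQn
  have h5 := N.b4
  have h6 : cnt (fun w => (S.B e n = 0 ∧ S.Q n = 1) ∧
      (S.B e w = 0 ∧ S.B n w = 0 ∧ S.Q w = 0) ∧ w ∉ ({0, e} : Finset V)) ≤ 8 := by
    refine hcov.trans ?_
    omega
  nlinarith

theorem stepD_zero {o : O} (h : ¬ M.full o) {n n' : V} (hn : M.U o n) (hQn : S.Q n = 1)
    (hn' : M.U o n') (hB : S.B n n' = 0) : n' = 0 ∨ n' = e ∨ n' = n ∨ n' = e + n := by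
  rcases S.two (S.Q n') with hQ | hQ
  · rcases N.stepC h hn hQn hn' hQ with h1 | h1
    · exact Or.inl h1
    · exact Or.inr (Or.inl h1)
  · have h1 := N.stepC h hn hQn (M.add o _ _ hn' hn)
      (by rw [S.Q_add, hQ, hQn, S.symm, hB, add_zero, S.one_add_one])
    rcases h1 with h1 | h1
    · exact Or.inr (Or.inr (Or.inl (S.add_eq_zero.1 h1)))
    · right; right; right
      rw [S.add_eq_iff.1 h1, add_comm]

/-- The nonsingular vectors of a nonfull member. -/
theorem stepD {o : O} (h : ¬ M.full o) {n n' : V} (hn : M.U o n) (hQn : S.Q n = 1)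
    (hn' : M.U o n') : n' = 0 ∨ n' = e ∨ n' = n ∨ n' = e + n := by
  classical
  rcases S.two (S.B n n') with hB | hB
  · exact N.stepD_zero h hn hQn hn' hB
  exfalso
  have hQn' : S.Q n' = 1 := by
    rcases S.two (S.Q n') with h1 | h1
    · have h2 := N.orth h hn' h1 hn
      rw [S.symm, hB] at h2
      exact absurd h2 one_ne_zero
    · exact h1
  have hcov := M.cover_count
    (P := fun u w => (S.B e u = 0 ∧ S.Q u = 1) ∧
      (S.B e w = 0 ∧ S.B u w = 1 ∧ S.Q w = 1)) (by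
      have key : ∀ u w : V, S.B e u = 0 → S.Q u = 1 → S.Q w = 1 → S.B u w = 1 →
          u ≠ 0 ∧ u ≠ e ∧ w ≠ 0 ∧ w ≠ e ∧ w ≠ u ∧ w ≠ e + u := by
        intro u w h0 h1 h2 h3
        refine ⟨?_, ?_, ?_, ?_, ?_, ?_⟩
        · rintro rfl
          rw [S.Q_zero] at h1
          exact zero_ne_one h1
        · rintro rfl
          rw [N.hQe] at h1
          exact zero_ne_one h1
        · rintro rfl
          rw [S.Q_zero] at h2
          exact zero_ne_one h2
        · rintro rfl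
          rw [N.hQe] at h2
          exact zero_ne_one h2
        · rintro rfl
          rw [S.self] at h3
          exact zero_ne_one h3
        · rintro rfl
          rw [S.add_right, S.self, S.symm, h0, add_zero] at h3
          exact zero_ne_one h3
      rintro u w u' w' ⟨⟨h1, h2⟩, ⟨h3, h4, h5⟩⟩ ⟨⟨h1', h2'⟩, ⟨h3', h4', h5'⟩⟩
      obtain ⟨k1, k2, k5, k6, k3, k4⟩ := key u w h1 h2 h5 h4
      obtain ⟨k1', k2', k5', k6', k3', k4'⟩ := key u' w' h1' h2' h5' h4'
      exact S.wit3 e u w e u' w' N.he k1 k2 k5 k6 k3 k4 N.he k1' k2' k5' k6' k3' k4' rfl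
        (by rw [h2, h2']) (by rw [h5, h5']) (by rw [h1, h1']) (by rw [h3, h3'])
        (by rw [h4, h4']))
    h hn hn' ⟨⟨M.perp o n hn, hQn⟩, ⟨M.perp o n' hn', hB, hQn'⟩⟩ n
    (m := 4) (by
      intro o' ho' hno'
      by_cases hne : ∃ u, M.U o' u ∧ S.B n u = 1
      · obtain ⟨u, hu, hnu⟩ := hne
        refine (cnt_le_card (T := ({u, e + u, n + u, e + n + u} : Finset V)) ?_).trans
          Finset.card_le_four
        rintro w ⟨h8, -, -, h9, -⟩
        simp only [Finset.mem_insert, Finset.mem_singleton]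
        have h10 := N.stepD_zero ho' hno' hQn (M.add o' _ _ h8 hu)
          (by rw [S.add_right, h9, hnu, S.one_add_one])
        rcases h10 with h10 | h10 | h10 | h10
        · exact Or.inl (S.add_eq_zero.1 h10)
        · exact Or.inr (Or.inl (by rw [S.add_eq_iff.1 h10, add_comm]))
        · exact Or.inr (Or.inr (Or.inl (by rw [S.add_eq_iff.1 h10, add_comm])))
        · exact Or.inr (Or.inr (Or.inr (by rw [S.add_eq_iff.1 h10, add_comm])))
      · rw [cnt_eq_zero]
        · omega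
        · rintro w ⟨h8, -, -, h9, -⟩
          exact hne ⟨w, h8, h9⟩)
  have h1 : cnt (fun w => S.B e w = 0 ∧ S.B n w = 1 ∧ S.Q w = 1) ≤
      cnt (fun w => (S.B e n = 0 ∧ S.Q n = 1) ∧ (S.B e w = 0 ∧ S.B n w = 1 ∧ S.Q w = 1)) :=
    cnt_mono fun w hw => ⟨⟨M.perp o n hn, hQn⟩, hw⟩
  rw [(S.cnt_ns N.hV N.hQ N.he N.hQe hQn (M.perp o n hn)).2] at h1
  have h4 := N.kap_ns (M.perp o n hn) hQn
  have h5 := N.b4
  have h6 : cnt (fun w => (S.B e n = 0 ∧ S.Q n = 1) ∧
      (S.B e w = 0 ∧ S.B n w = 1 ∧ S.Q w = 1)) ≤ 16 := by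
    refine hcov.trans ?_
    omega
  have h7 : 2 * b ≤ 2 * b ^ 2 := by nlinarith
  have h8 := h1.trans h6
  zify [h7] at h8
  nlinarith

/-- A nonfull member has order at most 4. -/
theorem small {o : O} (h : ¬ M.full o) {u w : V} (hu : M.U o u) (hu0 : u ≠ 0) (hue : u ≠ e)
    (hw : M.U o w) : w = 0 ∨ w = e ∨ w = u ∨ w = e + u := by
  rcases S.two (S.Q u) with hQu | hQu
  · rcases S.two (S.Q w) with hQw | hQw
    · by_cases hw0 : w = 0
      · exact Or.inl hw0
      by_cases hwe : w = e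
      · exact Or.inr (Or.inl hwe)
      exact Or.inr (Or.inr (N.stepB h hu hu0 hue hQu hw hw0 hwe hQw))
    · rcases N.stepC h hw hQw hu hQu with h1 | h1
      · exact absurd h1 hu0
      · exact absurd h1 hue
  · exact N.stepD h hu hQu hw

/-- There is at most one full member. -/
theorem full_unique {o o' : O} (h : M.full o) (h' : M.full o') : o = o' := by
  classical
  by_contra hne
  have h8 : ∀ o, M.full o → cnt (M.U o) = 8 * b ^ 2 := by
    intro o ho
    rw [← (S.cnt_perp N.hV N.he).1]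
    exact cnt_congr fun w => ⟨M.perp o w, ho w⟩
  have h1 : ∑ x ∈ ({o, o'} : Finset O), cnt (M.U x) ≤ ∑ x, cnt (M.U x) :=
    Finset.sum_le_sum_of_subset (Finset.subset_univ _)
  rw [Finset.sum_pair hne, h8 o h, h8 o' h'] at h1
  have h2 := N.hT
  omega

/-- If there is a full member then the nonfull members are trivial. -/
theorem trivial_of_full {o₀ : O} (h₀ : M.full o₀) {o : O} (h : ¬ M.full o) {w : V}
    (hw : M.U o w) : w = 0 ∨ w = e := by
  classical
  by_contra hcon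
  rw [not_or] at hcon
  obtain ⟨hw0, hwe⟩ := hcon
  have hew := M.perp o w hw
  set T : Finset V := {0, e} with hT
  set C : Finset V := Finset.univ.filter
    (fun u => (S.B e u = 0 ∧ S.Q u = S.Q w) ∧ u ∉ T) with hC
  have hCm : ∀ u, u ∈ C → S.B e u = 0 ∧ S.Q u = S.Q w ∧ u ≠ 0 ∧ u ≠ e := by
    intro u hu
    rw [hC] at hu
    simp only [Finset.mem_filter, Finset.mem_univ, true_and] at hu
    rw [hT, Finset.mem_insert, Finset.mem_singleton, not_or] at hu
    exact ⟨hu.1.1, hu.1.2, hu.2.1, hu.2.2⟩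
  have hb4 := N.b4
  have hCc : 4 * b ^ 2 ≤ C.card + 2 * b := by
    have h2 := cnt_le_add (fun u => S.B e u = 0 ∧ S.Q u = S.Q w) T
    have h3 : T.card ≤ 2 := Finset.card_le_two
    have h5 : cnt (fun u => (S.B e u = 0 ∧ S.Q u = S.Q w) ∧ u ∉ T) = C.card := cnt_eq _
    rcases S.two (S.Q w) with h4 | h4
    · rw [h5, h4, (S.cnt_sing N.hV N.hQ N.he N.hQe).1] at h2
      omega
    · have h6 : cnt (fun u => (S.B e u = 0 ∧ S.Q u = S.Q w) ∧ u ∉ T) =
          cnt (fun u => S.B e u = 0 ∧ S.Q u = 1) := by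
        apply cnt_congr
        intro u
        rw [h4]
        refine ⟨fun h => h.1, fun h => ⟨h, ?_⟩⟩
        rw [hT, Finset.mem_insert, Finset.mem_singleton, not_or]
        constructor
        · rintro rfl
          rw [S.Q_zero] at h
          exact zero_ne_one h.2
        · rintro rfl
          rw [N.hQe] at h
          exact zero_ne_one h.2
      rw [← h5, h6, (S.cnt_sing N.hV N.hQ N.he N.hQe).2]
      omega
  have hf : ∀ u : V, ∃ o' : O, u ∈ C → ¬ M.full o' ∧ M.U o' u := by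
    intro u
    by_cases hu : u ∈ C
    · obtain ⟨h1, h2, h3, h4⟩ := hCm u hu
      obtain ⟨g, hg1, hg2⟩ := S.wit2 e w e u N.he hw0 hwe N.he h3 h4 rfl h2.symm
        (by rw [hew, h1])
      obtain ⟨π, hπ⟩ := M.conj g hg1
      refine ⟨π o, fun _ => ⟨?_, ?_⟩⟩
      · rw [M.full_conj hπ hg1]
        exact h
      · rw [← hg2, hπ]
        exact hw
    · exact ⟨o, fun h => absurd h hu⟩
  choose f hf using hf
  have h2 : C.card ≤ 2 * (C.image f).card := by
    refine Finset.card_le_mul_card_image C 2 ?_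
    intro o' ho'
    rw [Finset.mem_image] at ho'
    obtain ⟨u, hu, rfl⟩ := ho'
    have h3 : C.filter (fun x => f x = f u) ⊆ ({u, e + u} : Finset V) := by
      intro x hx
      rw [Finset.mem_filter] at hx
      rw [Finset.mem_insert, Finset.mem_singleton]
      obtain ⟨h1, h2, h3, h4⟩ := hCm u hu
      obtain ⟨k1, k2, k3, k4⟩ := hCm x hx.1
      have h5 := hf u hu
      have h6 := (hf x hx.1).2
      rw [hx.2] at h6
      rcases N.small h5.1 h5.2 h3 h4 h6 with h7 | h7 | h7 | h7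
      · exact absurd h7 k3
      · exact absurd h7 k4
      · exact Or.inl h7
      · exact Or.inr h7
    exact (Finset.card_le_card h3).trans Finset.card_le_two
  have h3 : 8 * b ^ 2 + (C.image f).card * 4 ≤ ∑ o', cnt (M.U o') := by
    have h4 : o₀ ∉ C.image f := by
      intro h5
      rw [Finset.mem_image] at h5
      obtain ⟨u, hu, rfl⟩ := h5
      exact (hf u hu).1 h₀
    have h5 : ∑ x ∈ insert o₀ (C.image f), cnt (M.U x) ≤ ∑ x, cnt (M.U x) :=
      Finset.sum_le_sum_of_subset (Finset.subset_univ _)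
    rw [Finset.sum_insert h4] at h5
    refine le_trans (Nat.add_le_add ?_ ?_) h5
    · rw [← (S.cnt_perp N.hV N.he).1]
      exact cnt_mono h₀
    · rw [← smul_eq_mul, ← Finset.sum_const]
      refine Finset.sum_le_sum fun o' ho' => ?_
      rw [Finset.mem_image] at ho'
      obtain ⟨u, hu, rfl⟩ := ho'
      obtain ⟨h6, h7, h8, h9⟩ := hCm u hu
      rw [← four_distinct (S := S) N.he h8 h9, ← Nat.zero_add (Finset.card _)]
      refine le_trans (Nat.add_le_add_right (Nat.zero_le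
        (cnt (fun v => M.U (f u) v ∧ v ∉ ({0, e, u, e + u} : Finset V)))) _) ?_
      apply cnt_sub
      intro v hv
      simp only [Finset.mem_insert, Finset.mem_singleton] at hv
      rcases hv with rfl | rfl | rfl | rfl
      · exact M.zero _
      · exact M.e_mem _
      · exact (hf _ hu).2
      · exact M.add _ _ _ (M.e_mem _) (hf _ hu).2
  have h4 := N.hT
  omega

end Num

end Fam

end Op2

end Cfsg.Agent.H79.MinIdxOP2
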