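import Mathlib
import Cfsg.Agent.H79.MinIdxOP2.Steps

/-!
# The family of annihilators of the point stabilizers in the Siegel group of a singular vector
-/

set_option autoImplicit false
set_option linter.unusedSectionVars false

namespace Cfsg.Agent.H79.MinIdxOP2

open Cfsg.Agent.H79.OrbitDual

namespace Op2

variable {F V G : Type*} [Field F] [AddCommGroup V] [Module F V] [Group G]
    [DistribMulAction G V] (S : Op2 F V G) {X : Type*} [MulAction G X]

/-- The vectors orthogonal to `e`. -/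
def P (e : V) : AddSubgroup V where
  carrier := {w | S.B e w = 0}
  zero_mem' := S.zero_right e
  add_mem' := by
    intro a b ha hb
    change S.B e (a + b) = 0
    rw [S.add_right, show S.B e a = 0 from ha, show S.B e b = 0 from hb, add_zero]
  neg_mem' := by
    intro a ha
    rw [S.neg_eq]
    exact ha

theorem mem_P {e w : V} : w ∈ S.P e ↔ S.B e w = 0 := Iff.rfl

/-- The action of the Siegel group of `e`. -/
def D (X : Type*) [MulAction G X] {e : V} (he : S.Q e = 0) : Act G X (S.P e) where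
  T a := S.s e a.1
  map_add a b := (S.s_mul he a.2 b.2).symm

theorem D_T {e : V} (he : S.Q e = 0) (a : S.P e) : (S.D X he).T a = S.s e a.1 := rfl

/-- Orthogonality. -/
def kappa (e : V) (a : S.P e) (w : V) : Prop := S.B a.1 w = 0

/-- The stabilizer of `x` in the Siegel group of `e`. -/
def Fx {e : V} (he : S.Q e = 0) (x : X) : AddSubgroup V where
  carrier := {a | S.B e a = 0 ∧ S.s e a • x = x}
  zero_mem' := ⟨S.zero_right e, by rw [S.s_zero he, one_smul]⟩
  add_mem' := by
    rintro a b ⟨ha, ha'⟩ ⟨hb, hb'⟩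
    exact ⟨by rw [S.add_right, ha, hb, add_zero], by rw [← S.s_mul he ha hb, mul_smul, hb', ha']⟩
  neg_mem' := by
    intro a ha
    rw [S.neg_eq]
    exact ha

theorem mem_Fx {e : V} {he : S.Q e = 0} {x : X} {a : V} :
    a ∈ S.Fx he x ↔ S.B e a = 0 ∧ S.s e a • x = x := Iff.rfl

/-- The annihilator of the stabilizer. -/
abbrev Ann {e : V} (he : S.Q e = 0) (x : X) : AddSubgroup V := S.perp (S.Fx he x)

theorem mem_A_iff {e : V} (he : S.Q e = 0) (x : X) (w : V) :
    w ∈ (S.D X he).A (S.kappa e) x ↔ w ∈ S.Ann he x := by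
  constructor
  · intro h a ha
    exact h ⟨a, ha.1⟩ ha.2
  · intro h a ha
    exact h a.1 ⟨a.2, ha⟩

theorem e_mem_Ann {e : V} (he : S.Q e = 0) (x : X) : e ∈ S.Ann he x := by
  intro a ha
  rw [S.symm]
  exact ha.1

theorem self_mem_Fx {e : V} (he : S.Q e = 0) (x : X) : e ∈ S.Fx he x :=
  ⟨S.self e, by rw [S.s_self he, one_smul]⟩

theorem perp_of_mem_Ann {e : V} {he : S.Q e = 0} {x : X} {w : V} (hw : w ∈ S.Ann he x) :
    S.B e w = 0 := hw e (S.self_mem_Fx he x)

/-- Duality. -/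
theorem mem_Fx_iff [Finite V] {e : V} {he : S.Q e = 0} {x : X} {a : V} :
    a ∈ S.Fx he x ↔ ∀ w ∈ S.Ann he x, S.B w a = 0 := by
  rw [← S.mem_perp, S.perp_perp]

theorem smul_mem_Fx {e : V} (he : S.Q e = 0) (g : G) (hge : S.Q (g • e) = 0) (x : X) (a : V) :
    g • a ∈ S.Fx hge (g • x) ↔ a ∈ S.Fx he x := by
  rw [S.mem_Fx, S.mem_Fx, S.inv]
  refine and_congr_right fun ha => ?_
  rw [← S.s_conj g he ha, mul_smul, inv_smul_smul, mul_smul, smul_left_cancel_iff]

theorem smul_mem_Ann {e : V} (he : S.Q e = 0) (g : G) (hge : S.Q (g • e) = 0) (x : X) (w : V) :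
    g • w ∈ S.Ann hge (g • x) ↔ w ∈ S.Ann he x := by
  rw [S.mem_perp, S.mem_perp]
  constructor
  · intro h a ha
    rw [← S.inv g]
    exact h _ ((S.smul_mem_Fx he g hge x a).2 ha)
  · intro h a ha
    have h1 := S.smul_mem_Fx he g hge x (g⁻¹ • a)
    rw [smul_inv_smul] at h1
    rw [← h _ (h1.1 ha), ← S.inv g (g⁻¹ • a), smul_inv_smul]

/-- The permutation of the orbits. -/
def orbEquiv {e : V} (he : S.Q e = 0) (g : G) (hg : g • e = e) :
    (S.D X he).Orb ≃ (S.D X he).Orb where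
  toFun := Quotient.map (fun x => g • x) (by
    rintro x y ⟨a, rfl⟩
    refine ⟨⟨g • a.1, ?_⟩, ?_⟩
    · change S.B e (g • a.1) = 0
      have h1 := S.inv g e a.1
      rw [hg] at h1
      rw [h1]
      exact a.2
    · change S.s e (g • a.1) • g • x = g • S.s e a.1 • x
      have h1 := S.s_conj g he a.2
      rw [hg] at h1
      rw [← h1, mul_smul, inv_smul_smul, mul_smul])
  invFun := Quotient.map (fun x => g⁻¹ • x) (by
    have hg' : g⁻¹ • e = e := inv_smul_eq_iff.2 hg.symm
    rintro x y ⟨a, rfl⟩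
    refine ⟨⟨g⁻¹ • a.1, ?_⟩, ?_⟩
    · change S.B e (g⁻¹ • a.1) = 0
      have h1 := S.inv g⁻¹ e a.1
      rw [hg'] at h1
      rw [h1]
      exact a.2
    · change S.s e (g⁻¹ • a.1) • g⁻¹ • x = g⁻¹ • S.s e a.1 • x
      have h1 := S.s_conj g⁻¹ he a.2
      rw [hg'] at h1
      rw [← h1, mul_smul, inv_smul_smul, mul_smul])
  left_inv := by
    intro o
    induction o using Quotient.inductionOn with
    | h x => simp [Quotient.map_mk]
  right_inv := by
    intro o
    induction o using Quotient.inductionOn with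
    | h x => simp [Quotient.map_mk]

theorem Ann_eq_of_rel {e : V} {he : S.Q e = 0} {x y : X} (h : (S.D X he).rel x y) (w : V) :
    w ∈ S.Ann he x ↔ w ∈ S.Ann he y := by
  rw [← S.mem_A_iff, ← S.mem_A_iff, (S.D X he).A_eq_of_rel _ h]

theorem Ann_out {e : V} {he : S.Q e = 0} (x : X) (w : V) :
    w ∈ S.Ann he (Quotient.mk (S.D X he).rel x).out ↔ w ∈ S.Ann he x :=
  S.Ann_eq_of_rel (Quotient.mk_out x) w

/-- The family of the annihilators. -/
def fam (X : Type*) [MulAction G X] {e : V} (he : S.Q e = 0) : S.Fam e (S.D X he).Orb where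
  U o w := w ∈ S.Ann he o.out
  zero o := (S.Ann he o.out).zero_mem
  e_mem o := S.e_mem_Ann he o.out
  add o _ _ h h' := (S.Ann he o.out).add_mem h h'
  perp o w hw := S.perp_of_mem_Ann hw
  conj g hg := by
    refine ⟨S.orbEquiv he g hg, fun o w => ?_⟩
    induction o using Quotient.inductionOn with
    | h x =>
      have h1 : S.orbEquiv he g hg (Quotient.mk (S.D X he).rel x) =
        Quotient.mk (S.D X he).rel (g • x) := rfl
      rw [h1, S.Ann_out, S.Ann_out]
      have h2 := S.smul_mem_Ann he g (by rw [hg, he]) x w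
      simp only [hg] at h2
      exact h2

theorem fam_U {e : V} (he : S.Q e = 0) (x : X) (w : V) :
    (S.fam X he).U (Quotient.mk (S.D X he).rel x) w ↔ w ∈ S.Ann he x := S.Ann_out x w

section Count

variable [Fintype V]

theorem index_P {b : ℕ} (hb : 0 < b) (hV : Fintype.card V = 16 * b ^ 2) {e : V} (he : e ≠ 0) :
    (S.P e).index = 2 := by
  classical
  have h1 := (S.P e).card_mul_index
  have h2 : Nat.card (S.P e) = 8 * b ^ 2 := by
    rw [← (S.cnt_perp hV he).1, cnt_eq, Nat.card_eq_fintype_card]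
    change Fintype.card {w // w ∈ S.P e} = _
    rw [Fintype.card_subtype]
    rfl
  rw [h2, Nat.card_eq_fintype_card, hV] at h1
  have h3 : 0 < 8 * b ^ 2 := by positivity
  apply Nat.eq_of_mul_eq_mul_left h3
  rw [h1]
  ring

theorem card_kappa {b : ℕ} (hb : 0 < b) (hV : Fintype.card V = 16 * b ^ 2) {e : V} (he : e ≠ 0)
    (C : AddSubgroup (S.P e)) : Nat.card {w // ∀ a ∈ C, S.kappa e a w} = 2 * C.index := by
  have h1 := S.card_perp (C.map (S.P e).subtype)
  rw [AddSubgroup.index_map_subtype, S.index_P hb hV he] at h1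
  rw [mul_comm, ← h1]
  refine Nat.card_congr (Equiv.subtypeEquivRight fun w => ?_)
  constructor
  · rintro h _ ⟨a, ha, rfl⟩
    exact h a ha
  · intro h a ha
    exact h a.1 ⟨a, ha, rfl⟩

theorem sum_fam [Finite X] {b : ℕ} (hb : 0 < b) (hV : Fintype.card V = 16 * b ^ 2) {e : V}
    (he0 : e ≠ 0) (he : S.Q e = 0) [Fintype (S.D X he).Orb] :
    ∑ o, cnt ((S.fam X he).U o) = 2 * Nat.card X := by
  classical
  rw [(S.D X he).card_eq_sum_index, Finset.mul_sum]
  refine Finset.sum_congr rfl fun o _ => ?_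
  rw [← (S.D X he).card_A (S.kappa e) (S.card_kappa hb hV he0), cnt_eq,
    Nat.card_eq_fintype_card]
  change _ = Fintype.card {w // w ∈ (S.D X he).A (S.kappa e) o.out}
  rw [Fintype.card_subtype]
  congr 1
  ext w
  simp only [Finset.mem_filter, Finset.mem_univ, true_and]
  exact (S.mem_A_iff he _ w).symm

/-- Numerical hypotheses. -/
structure Hyp (X : Type*) (b k : ℕ) : Prop where
  hb : b = 2 ^ k
  hk : 2 ≤ k
  hV : Fintype.card V = 16 * b ^ 2
  hQ : cnt (fun v => S.Q v = 0) = 8 * b ^ 2 + 2 * b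
  hX : 2 * Nat.card X + 4 * b < 16 * b ^ 2

variable {S} {b k : ℕ}

theorem Hyp.num [Finite X] (N : S.Hyp X b k) {e : V} (he0 : e ≠ 0) (he : S.Q e = 0)
    [Fintype (S.D X he).Orb] : (S.fam X he).Num b k where
  hb := N.hb
  hk := N.hk
  hV := N.hV
  hQ := N.hQ
  he := he0
  hQe := he
  hT := by
    rw [S.sum_fam (by rw [N.hb]; positivity) N.hV he0 he]
    exact N.hX

theorem full_mk {e : V} (he : S.Q e = 0) (x : X) :
    (S.fam X he).full (Quotient.mk (S.D X he).rel x) ↔ ∀ w, S.B e w = 0 → w ∈ S.Ann he x :=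
  forall_congr' fun w => imp_congr_right fun _ => S.fam_U he x w

/-- The stabilizer of `x` is trivial. -/
theorem Hyp.small [Finite X] (N : S.Hyp X b k) {e : V} (he0 : e ≠ 0) (he : S.Q e = 0) (x : X)
    (hx : ¬ ∀ w, S.B e w = 0 → w ∈ S.Ann he x) {u w : V} (hu : u ∈ S.Ann he x) (hu0 : u ≠ 0)
    (hue : u ≠ e) (hw : w ∈ S.Ann he x) : w = 0 ∨ w = e ∨ w = u ∨ w = e + u := by
  have := Fintype.ofFinite (S.D X he).Orb
  have N' := N.num he0 he
  rw [← full_mk he x] at hx
  rw [← S.fam_U he x] at hu hw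
  exact N'.small hx hu hu0 hue hw

theorem Hyp.rel_of_full [Finite X] (N : S.Hyp X b k) {e : V} (he0 : e ≠ 0) (he : S.Q e = 0)
    {x y : X} (hx : ∀ w, S.B e w = 0 → w ∈ S.Ann he x)
    (hy : ∀ w, S.B e w = 0 → w ∈ S.Ann he y) : ∃ a, S.B e a = 0 ∧ S.s e a • x = y := by
  have := Fintype.ofFinite (S.D X he).Orb
  have N' := N.num he0 he
  rw [← full_mk he x] at hx
  rw [← full_mk he y] at hy
  have h1 : (S.D X he).rel x y := Quotient.exact (N'.full_unique hx hy)
  obtain ⟨a, ha⟩ := h1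
  exact ⟨a.1, a.2, ha⟩

theorem Hyp.trivial_of_full [Finite X] (N : S.Hyp X b k) {e : V} (he0 : e ≠ 0) (he : S.Q e = 0)
    {x y : X} (hx : ∀ w, S.B e w = 0 → w ∈ S.Ann he x)
    (hy : ¬ ∀ w, S.B e w = 0 → w ∈ S.Ann he y) {w : V} (hw : w ∈ S.Ann he y) :
    w = 0 ∨ w = e := by
  have := Fintype.ofFinite (S.D X he).Orb
  have N' := N.num he0 he
  rw [← full_mk he x] at hx
  rw [← full_mk he y] at hy
  rw [← S.fam_U he y] at hw
  exact N'.trivial_of_full hx hy hw

end Count

end Op2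

end Cfsg.Agent.H79.MinIdxOP2
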