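import Mathlib
import Cfsg.Agent.H79.MinIdxOP2.Orbs

/-!
# The minimal degree of the group of plus type over the field with two elements
-/

set_option autoImplicit false
set_option linter.unusedSectionVars false

namespace Cfsg.Agent.H79.MinIdxOP2

open Cfsg.Agent.H79.OrbitDual

namespace Op2

variable {F V G : Type*} [Field F] [AddCommGroup V] [Module F V] [Group G]
    [DistribMulAction G V] (S : Op2 F V G) {X : Type*} [MulAction G X]

/-- A totally singular plane and two hyperbolic pairs. -/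
structure Frame (e f p q r t : V) : Prop where
  Qe : S.Q e = 0
  Qf : S.Q f = 0
  Qp : S.Q p = 0
  Qq : S.Q q = 0
  Qr : S.Q r = 0
  Qt : S.Q t = 0
  ef : S.B e f = 0
  ep : S.B e p = 0
  eq : S.B e q = 0
  er : S.B e r = 0
  et : S.B e t = 0
  fp : S.B f p = 0
  fq : S.B f q = 0
  fr : S.B f r = 0
  ft : S.B f t = 0
  pq : S.B p q = 1
  rt : S.B r t = 1
  pr : S.B p r = 0
  pt : S.B p t = 0
  qr : S.B q r = 0
  qt : S.B q t = 0
  e0 : e ≠ 0
  f0 : f ≠ 0
  fe : f ≠ e

variable {S}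

/-- A singular vector nonorthogonal to a given nonsingular vector. -/
theorem Frame.exists_sing {e f p q r t : V} (R : S.Frame e f p q r t) {e' w : V} (he : e' ≠ 0)
    (hQe : S.Q e' = 0) (hw : S.B e' w = 0) (hQw : S.Q w = 1) :
    ∃ v, S.Q v = 0 ∧ S.B e' v = 0 ∧ S.B v w = 1 := by
  have h0 : S.Q (p + q) = 1 := by rw [S.Q_add, R.Qp, R.Qq, R.pq, zero_add, zero_add]
  have key : ∀ u a : V, S.Q u = 1 → S.Q a = 0 → u ≠ 0 ∧ u ≠ a := by
    intro u a h1 h2
    constructor
    · rintro rfl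
      rw [S.Q_zero] at h1
      exact zero_ne_one h1
    · rintro rfl
      rw [h2] at h1
      exact zero_ne_one h1
  obtain ⟨g, h1, h2⟩ := S.wit2 e (p + q) e' w R.e0 (key _ _ h0 R.Qe).1 (key _ _ h0 R.Qe).2 he
    (key _ _ hQw hQe).1 (key _ _ hQw hQe).2 (by rw [R.Qe, hQe]) (by rw [h0, hQw])
    (by rw [S.add_right, R.ep, R.eq, hw, add_zero])
  refine ⟨g • p, by rw [S.invQ, R.Qp], by rw [← h1, S.inv, R.ep], ?_⟩
  rw [← h2, S.inv, S.add_right, S.self, R.pq, zero_add]

/-- A hyperbolic pair orthogonal to a totally singular plane. -/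
theorem Frame.exists_opp {e f p q r t : V} (R : S.Frame e f p q r t) {e' f' : V} (he : e' ≠ 0)
    (hf : f' ≠ 0) (hfe : f' ≠ e') (hQe : S.Q e' = 0) (hQf : S.Q f' = 0) (hef : S.B e' f' = 0) :
    ∃ p' q', S.Q p' = 0 ∧ S.Q q' = 0 ∧ S.B p' q' = 1 ∧ S.B e' p' = 0 ∧ S.B e' q' = 0 ∧
      S.B f' p' = 0 ∧ S.B f' q' = 0 := by
  obtain ⟨g, h1, h2⟩ := S.wit2 e f e' f' R.e0 R.f0 R.fe he hf hfe (by rw [R.Qe, hQe])
    (by rw [R.Qf, hQf]) (by rw [R.ef, hef])
  refine ⟨g • p, g • q, by rw [S.invQ, R.Qp], by rw [S.invQ, R.Qq], by rw [S.inv, R.pq], ?_, ?_,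
    ?_, ?_⟩
  · rw [← h1, S.inv, R.ep]
  · rw [← h1, S.inv, R.eq]
  · rw [← h2, S.inv, R.fp]
  · rw [← h2, S.inv, R.fq]

/-- Two singular vectors have a common neighbour. -/
theorem Frame.exists_common {e f p q r t : V} (R : S.Frame e f p q r t) {e' f' : V} (he : e' ≠ 0)
    (hf : f' ≠ 0) (hQe : S.Q e' = 0) (hQf : S.Q f' = 0) :
    ∃ v, v ≠ 0 ∧ v ≠ e' ∧ v ≠ f' ∧ S.Q v = 0 ∧ S.B e' v = 0 ∧ S.B v f' = 0 := by
  by_cases hfe : f' = e'
  · subst hfe
    obtain ⟨g, h1⟩ := S.wit1 e f' R.e0 hf (by rw [R.Qe, hQf])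
    have h2 : g • f ≠ f' := by
      rw [← h1]
      intro h
      exact R.fe (MulAction.injective g h)
    exact ⟨g • f, S.smul_ne_zero R.f0, h2, h2, by rw [S.invQ, R.Qf],
      by rw [← h1, S.inv, R.ef], by rw [← h1, S.inv, S.symm, R.ef]⟩
  · rcases S.two (S.B e' f') with hef | hef
    · obtain ⟨p', q', h1, h2, h3, h4, h5, h6, h7⟩ := R.exists_opp he hf hfe hQe hQf hef
      refine ⟨p', ?_, ?_, ?_, h1, h4, by rw [S.symm, h6]⟩
      · rintro rfl
        rw [S.zero_left] at h3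
        exact zero_ne_one h3
      · rintro rfl
        rw [h5] at h3
        exact zero_ne_one h3
      · rintro rfl
        rw [h7] at h3
        exact zero_ne_one h3
    · have hp0 : p ≠ 0 := by
        rintro rfl
        have := R.pq
        rw [S.zero_left] at this
        exact zero_ne_one this
      have hq0 : q ≠ 0 := by
        rintro rfl
        have := R.pq
        rw [S.zero_right] at this
        exact zero_ne_one this
      have hqp : q ≠ p := by
        rintro rfl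
        have := R.pq
        rw [S.self] at this
        exact zero_ne_one this
      obtain ⟨g, h1, h2⟩ := S.wit2 p q e' f' hp0 hq0 hqp he hf hfe (by rw [R.Qp, hQe])
        (by rw [R.Qq, hQf]) (by rw [R.pq, hef])
      refine ⟨g • e, S.smul_ne_zero R.e0, ?_, ?_, by rw [S.invQ, R.Qe],
        by rw [← h1, S.inv, S.symm, R.ep], by rw [← h2, S.inv, R.eq]⟩
      · rw [← h1]
        intro h
        have h3 : e = p := MulAction.injective g h
        have h4 := R.pq
        rw [← h3, R.eq] at h4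
        exact zero_ne_one h4
      · rw [← h2]
        intro h
        have h3 : e = q := MulAction.injective g h
        have h4 := R.pq
        rw [← h3, S.symm, R.ep] at h4
        exact zero_ne_one h4

/-- A point fixed by the root elements is fixed by the group. -/
theorem Frame.stabilizer_eq_top {e f p q r t : V} (R : S.Frame e f p q r t) {x : X}
    (h : ∀ e v, e ≠ 0 → v ≠ 0 → v ≠ e → S.Q e = 0 → S.Q v = 0 → S.B e v = 0 →
      S.s e v • x = x) : MulAction.stabilizer G x = ⊤ := by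
  apply S.gen
  intro e' w hQe hw
  rw [MulAction.mem_stabilizer_iff]
  by_cases he : e' = 0
  · have h1 : S.s e' w = 1 := by
      apply S.ext
      intro y
      rw [S.s_smul hQe hw, he, S.zero_left, smul_zero, mul_zero, zero_smul, zero_smul, add_zero,
        add_zero, add_zero, one_smul]
    rw [h1, one_smul]
  have key : ∀ w, S.B e' w = 0 → S.Q w = 0 → S.s e' w • x = x := by
    intro w hw hQw
    by_cases hw0 : w = 0
    · rw [hw0, S.s_zero hQe, one_smul]
    by_cases hwe : w = e'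
    · rw [hwe, S.s_self hQe, one_smul]
    exact h e' w he hw0 hwe hQe hQw hw
  rcases S.two (S.Q w) with hQw | hQw
  · exact key w hw hQw
  · obtain ⟨v, h1, h2, h3⟩ := R.exists_sing he hQe hw hQw
    have h4 : S.B e' (v + w) = 0 := by rw [S.add_right, h2, hw, add_zero]
    have h5 : S.s e' w = S.s e' v * S.s e' (v + w) := by
      rw [S.s_mul hQe h2 h4, S.add_add_self]
    rw [h5, mul_smul, key (v + w) h4 (by
      rw [S.Q_add, h1, hQw, h3, zero_add, S.one_add_one]), key v h2 h1]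

section Main

variable [Fintype V] [Finite X] {b k : ℕ}

/-- The pair `(e, x)` is free. -/
def Free (S : Op2 F V G) (e : V) (x : X) : Prop := ∀ a, S.B e a = 0 → S.s e a • x = x → a = 0 ∨ a = e

theorem free_of_full {e : V} (he : S.Q e = 0) {x : X}
    (h : ∀ w, S.B e w = 0 → w ∈ S.Ann he x) : Free S e x := by
  intro a ha hax
  have h1 : a ∈ S.Fx he x := ⟨ha, hax⟩
  rw [S.mem_Fx_iff] at h1
  by_contra hcon
  rw [not_or] at hcon
  obtain ⟨w, hw1, hw2⟩ := S.sep hcon.1 hcon.2
  have h2 := h1 w (h w hw1)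
  rw [S.symm, hw2] at h2
  exact one_ne_zero h2

/-- The case without full members. -/
theorem Hyp.root_fix (N : S.Hyp X b k) {e₀ f₀ p₀ q₀ r₀ t₀ : V}
    (R : S.Frame e₀ f₀ p₀ q₀ r₀ t₀)
    (hα : ∀ e (he : S.Q e = 0) (x : X), e ≠ 0 → ¬ ∀ w, S.B e w = 0 → w ∈ S.Ann he x) {e v : V}
    (he0 : e ≠ 0) (hv0 : v ≠ 0) (hve : v ≠ e) (he : S.Q e = 0) (hv : S.Q v = 0)
    (hev : S.B e v = 0) (x : X) : S.s e v • x = x := by
  by_contra hcon
  have key : ∀ e v (he0 : e ≠ 0) (hv0 : v ≠ 0) (hve : v ≠ e) (he : S.Q e = 0) (hv : S.Q v = 0)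
      (hev : S.B e v = 0), S.s e v • x ≠ x →
      ∃ u, S.B u v = 1 ∧ ∀ a, S.B e a = 0 → S.B u a = 0 → S.s e a • x = x := by
    intro e v he0 hv0 hve he hv hev hne
    have h1 : v ∉ S.Fx he x := fun h => hne h.2
    rw [S.mem_Fx_iff] at h1
    push Not at h1
    obtain ⟨u, hu, huv⟩ := h1
    rw [S.ne_zero] at huv
    refine ⟨u, huv, fun a ha hua => ?_⟩
    have h2 : a ∈ S.Fx he x := by
      rw [S.mem_Fx_iff]
      intro w hw
      rcases N.small he0 he x (hα e he x he0) hu (by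
        rintro rfl
        rw [S.zero_left] at huv
        exact zero_ne_one huv) (by
        rintro rfl
        rw [hev] at huv
        exact zero_ne_one huv) hw with h | h | h | h
      · rw [h, S.zero_left]
      · rw [h, ha]
      · rw [h, hua]
      · rw [h, S.add_left, ha, hua, add_zero]
    exact h2.2
  have hve' : S.B v e = 0 := by rw [S.symm, hev]
  obtain ⟨u, hu, hu2⟩ := key e v he0 hv0 hve he hv hev hcon
  obtain ⟨u', hu', hu2'⟩ := key v e hv0 he0 hve.symm hv he hve' (by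
    rw [← S.s_symm he hv hev]
    exact hcon)
  obtain ⟨p, q, hQp, hQq, hpq, hep, heq, hvp, hvq⟩ := R.exists_opp he0 hv0 hve he hv hev
  have hpe : S.B p e = 0 := by rw [S.symm, hep]
  have hpv : S.B p v = 0 := by rw [S.symm, hvp]
  have hqe : S.B q e = 0 := by rw [S.symm, heq]
  set p' := p + S.B u p • v with hp'
  set q' := q + S.B u' q • e with hq'
  have h1 : S.B e p' = 0 := by rw [hp', S.add_right, S.smul_right, hep, hev, mul_zero, add_zero]
  have h2 : S.B u p' = 0 := by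
    rw [hp', S.add_right, S.smul_right, hu, mul_one, S.add_selfF]
  have h3 : S.B v q' = 0 := by rw [hq', S.add_right, S.smul_right, hvq, hve', mul_zero, add_zero]
  have h4 : S.B u' q' = 0 := by
    rw [hq', S.add_right, S.smul_right, hu', mul_one, S.add_selfF]
  have h5 : S.B e q' = 0 := by rw [hq', S.add_right, S.smul_right, heq, S.self, mul_zero, add_zero]
  have h6 : S.B p' v = 0 := by rw [hp', S.add_left, S.smul_left, hpv, S.self, mul_zero, add_zero]
  have h7 : S.B p' q' = 1 := by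
    rw [hp', S.add_left, S.smul_left, h3, mul_zero, add_zero, hq', S.add_right, S.smul_right, hpq,
      hpe, mul_zero, add_zero]
  have k1 := hu2 p' h1 h2
  have k2 := hu2' q' h3 h4
  have h8 := S.s_conj (S.s e p') hv h3
  rw [S.s_smul he h1, S.s_smul he h1 q', hev, h6, h5, h7] at h8
  simp only [mul_zero, zero_smul, add_zero, one_smul] at h8
  rw [← S.s_mul hv h3 hve'] at h8
  have h9 : S.s v e = (S.s v q')⁻¹ * (S.s e p' * S.s v q' * (S.s e p')⁻¹) := by
    rw [h8]
    group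
  apply hcon
  rw [S.s_symm he hv hev, h9, mul_smul, mul_smul, mul_smul, inv_smul_eq_iff.2 k1.symm, k2, k1,
    inv_smul_eq_iff.2 k2.symm]

/-- The case with full members: all pairs are free. -/
theorem Hyp.all_full (N : S.Hyp X b k) {e₀ f₀ p₀ q₀ r₀ t₀ : V} (R : S.Frame e₀ f₀ p₀ q₀ r₀ t₀)
    [MulAction.IsPretransitive G X] (hX : 1 < Nat.card X)
    {e₁ : V} {he₁ : S.Q e₁ = 0} {x₁ : X} (he₁0 : e₁ ≠ 0)
    (hβ : ∀ w, S.B e₁ w = 0 → w ∈ S.Ann he₁ x₁) (e : V) (he : S.Q e = 0) (he0 : e ≠ 0) (x : X) :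
    ∀ w, S.B e w = 0 → w ∈ S.Ann he x := by
  have hex : ∀ e (he : S.Q e = 0), e ≠ 0 → ∃ x : X, ∀ w, S.B e w = 0 → w ∈ S.Ann he x := by
    intro e he he0
    obtain ⟨g, hg⟩ := S.wit1 e₁ e he₁0 he0 (by rw [he₁, he])
    subst hg
    refine ⟨g • x₁, fun w hw => ?_⟩
    have h1 := S.smul_mem_Ann he₁ g he x₁ (g⁻¹ • w)
    rw [smul_inv_smul] at h1
    rw [h1]
    apply hβ
    rw [← S.inv g, smul_inv_smul, hw]
  -- trivial pairs
  have htriv : ∀ e (he : S.Q e = 0), e ≠ 0 → ∀ x : X, (¬ ∀ w, S.B e w = 0 → w ∈ S.Ann he x) →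
      ∀ a, S.B e a = 0 → S.s e a • x = x := by
    intro e he he0 x hx a ha
    obtain ⟨y, hy⟩ := hex e he he0
    have h1 : a ∈ S.Fx he x := by
      rw [S.mem_Fx_iff]
      intro w hw
      rcases N.trivial_of_full he0 he hy hx hw with h | h
      · rw [h, S.zero_left]
      · rw [h, ha]
    exact h1.2
  by_contra hcon
  have hstep : ∀ e v (he : S.Q e = 0) (hv : S.Q v = 0), e ≠ 0 → v ≠ 0 → v ≠ e → S.B e v = 0 →
      (¬ ∀ w, S.B e w = 0 → w ∈ S.Ann he x) → ¬ ∀ w, S.B v w = 0 → w ∈ S.Ann hv x := by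
    intro e v he hv he0 hv0 hve hev h hfull
    have h1 := htriv e he he0 x h v hev
    rw [S.s_symm he hv hev] at h1
    rcases free_of_full hv hfull e (by rw [S.symm, hev]) h1 with h2 | h2
    · exact he0 h2
    · exact hve h2.symm
  have hall : ∀ v (hv : S.Q v = 0), v ≠ 0 → ¬ ∀ w, S.B v w = 0 → w ∈ S.Ann hv x := by
    intro v hv hv0
    obtain ⟨u, hu0, hue, huv, hQu, heu, huv'⟩ := R.exists_common he0 hv0 he hv
    exact hstep u v hQu hv hu0 hv0 huv.symm huv' (hstep e u he hQu he0 hu0 hue heu hcon)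
  have h1 : MulAction.stabilizer G x = ⊤ := by
    apply R.stabilizer_eq_top
    intro e v he0 hv0 hve he hv hev
    exact htriv e he he0 x (hall e he he0) v hev
  have : Nontrivial X := Finite.one_lt_card_iff_nontrivial.1 hX
  obtain ⟨y, hy⟩ := exists_ne x
  obtain ⟨g, hg⟩ := MulAction.exists_smul_eq G x y
  have h2 : g ∈ MulAction.stabilizer G x := by rw [h1]; trivial
  exact hy (by rw [← hg]; exact h2)

end Main

end Op2

end Cfsg.Agent.H79.MinIdxOP2
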