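import Mathlib
import Cfsg.Agent.H79.MinIdxOP2.Final

/-!
# The Siegel groups are not all regular
-/

set_option autoImplicit false
set_option linter.unusedSectionVars false

namespace Cfsg.Agent.H79.MinIdxOP2

open Cfsg.Agent.H79.OrbitDual

namespace Op2

variable {F V G : Type*} [Field F] [AddCommGroup V] [Module F V] [Group G]
    [DistribMulAction G V] (S : Op2 F V G) {X : Type*} [MulAction G X]

/-- All Siegel groups act regularly. -/
structure Reg (X : Type*) [MulAction G X] : Prop where
  free : ∀ e, S.Q e = 0 → e ≠ 0 → ∀ (x : X) a, S.B e a = 0 → S.s e a • x = x → a = 0 ∨ a = e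
  trans : ∀ e, S.Q e = 0 → e ≠ 0 → ∀ x y : X, ∃ a, S.B e a = 0 ∧ S.s e a • x = y

/-- A totally singular plane. -/
structure TS (e f : V) : Prop where
  he : S.Q e = 0
  hf : S.Q f = 0
  ef : S.B e f = 0
  e0 : e ≠ 0
  f0 : f ≠ 0
  fe : f ≠ e

/-- The relation. -/
structure K (e f : V) (x : X) (w v : V) : Prop where
  we : S.B e w = 0
  wf : S.B f w = 0
  ve : S.B e v = 0
  vf : S.B f v = 0
  fix : (S.s e v * S.s f w) • x = x

variable {S} {e f : V} {x : X}

theorem TS.fe' (T : S.TS e f) : S.B f e = 0 := by rw [S.symm, T.ef]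

theorem TS.s_e (T : S.TS e f) {w : V} (hew : S.B e w = 0) (hfw : S.B f w = 0) :
    S.s f w • e = e := by
  rw [S.s_smul T.hf hfw, T.fe', S.symm w e, hew, mul_zero, zero_smul, zero_smul,
    add_zero, add_zero, add_zero]

/-- Moving an element of the Siegel group of `f` across one of `e`. -/
theorem TS.move (T : S.TS e f) {w v : V} (hew : S.B e w = 0) (hfw : S.B f w = 0)
    (hev : S.B e v = 0) : S.s f w * S.s e v = S.s e (S.s f w • v) * S.s f w := by
  have h1 := S.s_conj (S.s f w) T.he hev
  rw [T.s_e hew hfw] at h1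
  rw [← h1]
  group

theorem TS.e_smul (T : S.TS e f) {w v : V} (hew : S.B e w = 0) (hfw : S.B f w = 0)
    (hev : S.B e v = 0) : S.B e (S.s f w • v) = 0 := by
  have h1 := S.inv (S.s f w) e v
  rw [T.s_e hew hfw] at h1
  rw [h1, hev]

theorem Reg.uniq (R : S.Reg X) (T : S.TS e f) {w v v' : V} (hv : S.B e v = 0)
    (hv' : S.B e v' = 0) (h : (S.s e v * S.s f w) • x = x) (h' : (S.s e v' * S.s f w) • x = x) :
    v' + v = 0 ∨ v' + v = e := by
  apply R.free e T.he T.e0 x _ (by rw [S.add_right, hv, hv', add_zero])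
  have h1 : S.s e (v' + v) = (S.s e v' * S.s f w) * (S.s e v * S.s f w)⁻¹ := by
    rw [← S.s_mul T.he hv' hv, _root_.mul_inv_rev, S.s_inv T.he hv]
    group
  rw [h1, mul_smul, inv_smul_eq_iff.2 h.symm, h']

/-- Existence. -/
theorem Reg.exists_K (R : S.Reg X) (T : S.TS e f) {w y : V} (hew : S.B e w = 0)
    (hfw : S.B f w = 0) (hey : S.B e y = 0) (hfy : S.B f y = 0) (hwy : S.B w y = 1) (x : X) :
    ∃ v, S.K e f x w v ∧ S.B w v = 0 := by
  obtain ⟨a, ha, hax⟩ := R.trans e T.he T.e0 (S.s f w • x) x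
  have h1 : (S.s e a * S.s f w) • x = x := by rw [mul_smul, hax]
  have h2 : (S.s e a * S.s f w) * (S.s e a * S.s f w) = S.s e (a + S.s f w • a) := by
    rw [← S.s_mul T.he ha (T.e_smul hew hfw ha), mul_assoc, ← mul_assoc (S.s f w), T.move hew hfw ha,
      mul_assoc, S.s_sq T.hf hfw, mul_one]
  have h3 := R.free e T.he T.e0 x _ (by rw [S.add_right, ha, T.e_smul hew hfw ha, add_zero])
    (show S.s e (a + S.s f w • a) • x = x by rw [← h2, mul_smul, h1, h1])
  rw [S.s_smul T.hf hfw, ← add_assoc, ← add_assoc, ← add_assoc, S.add_self, zero_add] at h3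
  have h4 : S.B f a = 0 := by
    rcases S.two (S.B f a) with h | h
    · exact h
    · exfalso
      rw [h, one_smul, mul_one] at h3
      have h5 : S.B (w + S.B w a • f + S.Q w • f) y = 1 := by
        rw [S.add_left, S.add_left, S.smul_left, S.smul_left, hfy, hwy, mul_zero, mul_zero,
          add_zero, add_zero]
      rcases h3 with h3 | h3
      · rw [h3, S.zero_left] at h5
        exact zero_ne_one h5
      · rw [h3, hey] at h5
        exact zero_ne_one h5
  rw [h4, mul_zero, zero_smul, zero_smul, zero_add, add_zero] at h3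
  refine ⟨a, ⟨hew, hfw, ha, h4, h1⟩, ?_⟩
  rcases S.two (S.B w a) with h | h
  · exact h
  · exfalso
    rw [h, one_smul] at h3
    rcases h3 with h3 | h3
    · exact T.f0 h3
    · exact T.fe h3

/-- Products. -/
theorem TS.K_add (T : S.TS e f) {w v z v' : V} (h : S.K e f x w v) (h' : S.K e f x z v') :
    S.K e f x (w + z) (v + v' + S.B w v' • f) := by
  have h1 : S.s f w • v' = v' + S.B w v' • f := by
    rw [S.s_smul T.hf h.wf, h'.vf, mul_zero, zero_smul, zero_smul, add_zero, add_zero]
  have h2 : S.B e (v' + S.B w v' • f) = 0 := by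
    rw [S.add_right, S.smul_right, h'.ve, T.ef, mul_zero, add_zero]
  refine ⟨by rw [S.add_right, h.we, h'.we, add_zero], by rw [S.add_right, h.wf, h'.wf, add_zero],
    ?_, ?_, ?_⟩
  · rw [S.add_right, S.add_right, S.smul_right, h.ve, h'.ve, T.ef, mul_zero, add_zero, add_zero]
  · rw [S.add_right, S.add_right, S.smul_right, h.vf, h'.vf, S.self, mul_zero, add_zero, add_zero]
  · have h3 : S.s e (v + v' + S.B w v' • f) * S.s f (w + z) =
        (S.s e v * S.s f w) * (S.s e v' * S.s f z) := by
      rw [add_assoc, ← S.s_mul T.he h.ve h2, ← S.s_mul T.hf h.wf h'.wf, ← h1, mul_assoc, mul_assoc,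
        ← mul_assoc (S.s f w) (S.s e v'), T.move h.we h.wf h'.ve, mul_assoc]
    rw [h3, mul_smul, h'.fix, h.fix]

/-- Symmetry. -/
theorem Reg.K_symm (R : S.Reg X) (T : S.TS e f) {w v z v' : V} (h : S.K e f x w v)
    (h' : S.K e f x z v') : S.B w v' = S.B z v := by
  have h1 := T.K_add h h'
  have h2 := T.K_add h' h
  rw [add_comm z w] at h2
  have h3 := R.uniq T h1.ve h2.ve h1.fix h2.fix
  have h4 : v' + v + S.B z v • f + (v + v' + S.B w v' • f) = (S.B z v + S.B w v') • f := by
    rw [add_smul]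
    have h5 := S.add_self (v + v')
    calc v' + v + S.B z v • f + (v + v' + S.B w v' • f)
        = (v + v' + (v + v')) + (S.B z v • f + S.B w v' • f) := by abel
      _ = _ := by rw [h5, zero_add]
  rw [h4] at h3
  rcases S.two (S.B z v + S.B w v') with h5 | h5
  · exact (S.add_eq_zeroF.1 h5).symm
  · rw [h5, one_smul] at h3
    rcases h3 with h3 | h3
    · exact absurd h3 T.f0
    · exact absurd h3 T.fe

/-- Conjugation. -/
theorem TS.K_conj (T : S.TS e f) {g : G} (hge : g • e = e) (hgf : g • f = f) {u : V}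
    (hu : S.B e u = 0) (hux : (S.s e u * g) • x = x) {w v : V} (h : S.K e f x w v) :
    ∃ c : F, S.B e (g • v + S.B f u • (g • w) + c • f) = 0 ∧
      (S.s e (g • v + S.B f u • (g • w) + c • f) * S.s f (g • w)) • x = x := by
  have h1 : S.B e (g • w) = 0 := by
    have := S.inv g e w
    rw [hge] at this
    rw [this, h.we]
  have h2 : S.B f (g • w) = 0 := by
    have := S.inv g f w
    rw [hgf] at this
    rw [this, h.wf]
  have h3 : S.B e (g • v) = 0 := by
    have := S.inv g e v
    rw [hge] at this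
    rw [this, h.ve]
  have h4 : S.B e (u + g • v) = 0 := by rw [S.add_right, hu, h3, add_zero]
  refine ⟨S.B (g • w) u + S.Q (g • w) * S.B f u, ?_, ?_⟩
  · rw [S.add_right, S.add_right, S.smul_right, S.smul_right, h3, h1, T.ef, mul_zero, mul_zero,
      add_zero, add_zero]
  · have h5 : g • v + S.B f u • (g • w) + (S.B (g • w) u + S.Q (g • w) * S.B f u) • f =
        (u + g • v) + S.s f (g • w) • u := by
      rw [S.s_smul T.hf h2, add_smul]
      have h6 := S.add_self u
      calc g • v + S.B f u • (g • w) + (S.B (g • w) u • f + (S.Q (g • w) * S.B f u) • f)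
          = (u + u) + (g • v + S.B f u • (g • w) + (S.B (g • w) u • f +
            (S.Q (g • w) * S.B f u) • f)) := by rw [h6, zero_add]
        _ = _ := by abel
    have h6 : S.s e ((u + g • v) + S.s f (g • w) • u) * S.s f (g • w) =
        (S.s e u * g) * (S.s e v * S.s f w) * (S.s e u * g)⁻¹ := by
      rw [← S.s_mul T.he h4 (T.e_smul h1 h2 hu), mul_assoc (S.s e (u + g • v)), ← T.move h1 h2 hu,
        ← S.s_mul T.he hu h3, _root_.mul_inv_rev, S.s_inv T.he hu]
      have h7 := S.s_conj g T.he h.ve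
      have h8 := S.s_conj g T.hf h.wf
      rw [hge] at h7
      rw [hgf] at h8
      rw [← h7, ← h8]
      group
    rw [h5, h6, mul_smul, mul_smul, inv_smul_eq_iff.2 hux.symm, h.fix, hux]

/-- The key formula. -/
theorem Reg.formula (R : S.Reg X) (T : S.TS e f) {p q r vp vq vr : V} (hp : S.Q p = 0)
    (hr : S.Q r = 0) (hpq : S.B p q = 1) (hpr : S.B p r = 0) (hqr : S.B q r = 0)
    (h1 : S.K e f x p vp) (h1' : S.B p vp = 0) (h2 : S.K e f x q vq) (h3 : S.K e f x r vr) :
    ∃ c d : F, vr = S.B p vq • r + S.B r vq • p + S.B r vp • (q + r) + c • f + d • e := by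
  have hpe : S.B p e = 0 := by rw [S.symm, h1.we]
  have hpf : S.B p f = 0 := by rw [S.symm, h1.wf]
  have hre : S.B r e = 0 := by rw [S.symm, h3.we]
  have hrf : S.B r f = 0 := by rw [S.symm, h3.wf]
  have hge : S.s p r • e = e := by
    rw [S.s_smul hp hpr, hpe, hre, mul_zero, zero_smul, zero_smul, add_zero, add_zero,
      add_zero]
  have hgf : S.s p r • f = f := by
    rw [S.s_smul hp hpr, hpf, hrf, mul_zero, zero_smul, zero_smul, add_zero, add_zero,
      add_zero]
  have hgp : S.s p r • p = p := by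
    rw [S.s_smul hp hpr, S.self, S.symm r p, hpr, mul_zero, zero_smul, zero_smul,
      add_zero, add_zero, add_zero]
  have hgq : S.s p r • q = q + r := by
    rw [S.s_smul hp hpr, hpq, S.symm r q, hqr, hr, zero_mul, zero_smul, one_smul,
      add_zero, add_zero]
  have hg : ∀ v, S.s p r • v = v + S.B p v • r + S.B r v • p := by
    intro v
    rw [S.s_smul hp hpr, hr, zero_mul, zero_smul, add_zero]
  obtain ⟨u, hu, hux⟩ := R.trans e T.he T.e0 (S.s p r • x) x
  have hux' : (S.s e u * S.s p r) • x = x := by rw [mul_smul, hux]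
  -- the value of `B f u`
  obtain ⟨c, hc1, hc2⟩ := T.K_conj hge hgf hu hux' h1
  rw [hgp] at hc1 hc2
  have h4 := R.uniq T h1.ve hc1 h1.fix hc2
  have h5 : S.B r vp + S.B f u = 0 := by
    have h6 : S.B (S.s p r • vp + S.B f u • p + c • f + vp) q = S.B r vp + S.B f u := by
      rw [hg, h1', zero_smul, add_zero]
      simp only [S.add_left, S.smul_left, hpq, h2.wf, mul_zero, mul_one, add_zero]
      have := S.add_selfF (S.B vp q)
      linear_combination this
    rw [← h6]
    rcases h4 with h4 | h4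
    · rw [h4, S.zero_left]
    · rw [h4, h2.we]
  have h5' : S.B f u = S.B r vp := (S.add_eq_zeroF.1 h5).symm
  -- the image of `q`
  obtain ⟨c', hc1', hc2'⟩ := T.K_conj hge hgf hu hux' h2
  rw [hgq] at hc1' hc2'
  have h6 := T.K_add h2 h3
  have h7 := R.uniq T h6.ve hc1' h6.fix hc2'
  rw [hg, h5'] at h7
  have h8 : vq + S.B p vq • r + S.B r vq • p + S.B r vp • (q + r) + c' • f +
      (vq + vr + S.B q vr • f) = vr + (S.B p vq • r + S.B r vq • p + S.B r vp • (q + r) +
        (c' + S.B q vr) • f) := by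
    rw [add_smul c']
    have := S.add_self vq
    calc vq + S.B p vq • r + S.B r vq • p + S.B r vp • (q + r) + c' • f +
      (vq + vr + S.B q vr • f) = (vq + vq) + (vr + (S.B p vq • r + S.B r vq • p +
        S.B r vp • (q + r) + (c' • f + S.B q vr • f))) := by abel
      _ = _ := by rw [this, zero_add]
  rw [h8] at h7
  rcases h7 with h7 | h7
  · refine ⟨c' + S.B q vr, 0, ?_⟩
    rw [zero_smul, add_zero]
    exact S.add_eq_zero.1 h7
  · refine ⟨c' + S.B q vr, 1, ?_⟩
    rw [one_smul]
    exact S.add_eq_iff.1 h7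

/-- The contradiction. -/
theorem Reg.false (R : S.Reg X) {p q r t : V} (A : S.Frame e f p q r t) (x : X) : False := by
  have T : S.TS e f := ⟨A.Qe, A.Qf, A.ef, A.e0, A.f0, A.fe⟩
  have hqp : S.B q p = 1 := by rw [S.symm, A.pq]
  have htr : S.B t r = 1 := by rw [S.symm, A.rt]
  have hrp : S.B r p = 0 := by rw [S.symm, A.pr]
  have htp : S.B t p = 0 := by rw [S.symm, A.pt]
  have hrq : S.B r q = 0 := by rw [S.symm, A.qr]
  have htq : S.B t q = 0 := by rw [S.symm, A.qt]
  obtain ⟨vp, hp, hp'⟩ := R.exists_K T A.ep A.fp A.eq A.fq A.pq x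
  obtain ⟨vq, hq, hq'⟩ := R.exists_K T A.eq A.fq A.ep A.fp hqp x
  obtain ⟨vr, hr, hr'⟩ := R.exists_K T A.er A.fr A.et A.ft A.rt x
  obtain ⟨vt, ht, ht'⟩ := R.exists_K T A.et A.ft A.er A.fr htr x
  -- `r`
  obtain ⟨c1, d1, h1⟩ := R.formula T A.Qp A.Qr A.pq A.pr A.qr hp hp' hq hr
  obtain ⟨c2, d2, h2⟩ := R.formula T A.Qq A.Qr hqp A.qr A.pr hq hq' hp hr
  obtain ⟨c3, d3, h3⟩ := R.formula T A.Qp A.Qt A.pq A.pt A.qt hp hp' hq ht
  obtain ⟨c5, d5, h5⟩ := R.formula T A.Qr A.Qp A.rt hrp htp hr hr' ht hp
  obtain ⟨c6, d6, h6⟩ := R.formula T A.Qt A.Qp htr htp hrp ht ht' hr hp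
  obtain ⟨c4, d4, h4⟩ := R.formula T A.Qq A.Qt hqp A.qt A.pt hq hq' hp ht
  have s1 := R.K_symm T hp hq
  have s2 := R.K_symm T hr ht
  have s3 := R.K_symm T hp hr
  have s4 := R.K_symm T hp ht
  have hte : S.B t e = 0 := by rw [S.symm, A.et]
  have htf : S.B t f = 0 := by rw [S.symm, A.ft]
  have hre : S.B r e = 0 := by rw [S.symm, A.er]
  have hrf : S.B r f = 0 := by rw [S.symm, A.fr]
  have hqe : S.B q e = 0 := by rw [S.symm, A.eq]
  have hqf : S.B q f = 0 := by rw [S.symm, A.fq]
  have e1 : S.B t vr = S.B p vq + S.B r vp := by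
    rw [h1]
    simp only [S.add_right, S.smul_right, htr, htp, htq, htf, hte, mul_zero, mul_one, add_zero,
      zero_add]
  have e2 : S.B t vr = S.B q vp + S.B r vq := by
    rw [h2]
    simp only [S.add_right, S.smul_right, htr, htp, htq, htf, hte, mul_zero, mul_one, add_zero,
      zero_add]
  have e3 : S.B r vt = S.B p vq + S.B t vp := by
    rw [h3]
    simp only [S.add_right, S.smul_right, A.rt, hrp, hrq, hrf, hre, mul_zero, mul_one, add_zero,
      zero_add]
  have e4 : S.B r vt = S.B q vp + S.B t vq := by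
    rw [h4]
    simp only [S.add_right, S.smul_right, A.rt, hrp, hrq, hrf, hre, mul_zero, mul_one, add_zero,
      zero_add]
  have e5 : S.B q vp = S.B r vt + S.B p vr := by
    rw [h5]
    simp only [S.add_right, S.smul_right, hqp, A.qr, A.qt, hqf, hqe, mul_zero, mul_one, add_zero,
      zero_add]
  have e6 : S.B q vp = S.B t vr + S.B p vt := by
    rw [h6]
    simp only [S.add_right, S.smul_right, hqp, A.qr, A.qt, hqf, hqe, mul_zero, mul_one, add_zero,
      zero_add]
  -- all coefficients agree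
  have f1 : S.B r vq = S.B r vp := by
    have : S.B p vq + S.B r vp = S.B p vq + S.B r vq := by rw [← e1, e2, s1]
    exact (add_left_cancel this).symm
  have f2 : S.B t vq = S.B t vp := by
    have : S.B p vq + S.B t vp = S.B p vq + S.B t vq := by rw [← e3, e4, s1]
    exact (add_left_cancel this).symm
  have f3 : S.B t vp = S.B r vp := by
    have h7 : S.B t vr + S.B p vr = S.B t vr + S.B p vt := by
      rw [← e6, e5, s2]
    have h8 := add_left_cancel h7
    rw [← s4, ← s3, h8]
  set β := S.B r vp with hβ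
  set γ := S.B p vq with hγ
  rw [f1] at h1
  rw [f2, f3] at h3
  -- the product
  have k := T.K_add hr ht
  have k1 : vr + vt = (γ + β) • (r + t) + (c1 + c3) • f + (d1 + d3) • e := by
    rw [h1, h3]
    have a1 := S.add_self (β • p)
    have a2 := S.add_self (β • q)
    calc γ • r + β • p + β • (q + r) + c1 • f + d1 • e +
          (γ • t + β • p + β • (q + t) + c3 • f + d3 • e)
        = (γ + β) • (r + t) + (c1 + c3) • f + (d1 + d3) • e + (β • p + β • p) +
          (β • q + β • q) := by module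
      _ = _ := by rw [a1, a2, add_zero, add_zero]
  have hw0 : S.B e (r + t) = 0 := k.we
  have hw1 : S.B f (r + t) = 0 := k.wf
  have hQw : S.Q (r + t) = 1 := by rw [S.Q_add, A.Qr, A.Qt, A.rt, zero_add, zero_add]
  -- the element
  obtain ⟨c, hc⟩ : ∃ c : F, (S.s e ((γ + β) • (r + t) + c • f) * S.s f (r + t)) • x = x := by
    refine ⟨c1 + c3 + S.B r vt, ?_⟩
    have h7 : vr + vt + S.B r vt • f =
        ((γ + β) • (r + t) + (c1 + c3 + S.B r vt) • f) + (d1 + d3) • e := by
      rw [k1]
      module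
    have h8 : S.B e ((γ + β) • (r + t) + (c1 + c3 + S.B r vt) • f) = 0 := by
      rw [S.add_right, S.smul_right, S.smul_right, hw0, T.ef, mul_zero, mul_zero, add_zero]
    have h9 : S.s e (vr + vt + S.B r vt • f) =
        S.s e ((γ + β) • (r + t) + (c1 + c3 + S.B r vt) • f) := by
      rw [h7]
      rcases S.two (d1 + d3) with h | h
      · rw [h, zero_smul, add_zero]
      · rw [h, one_smul, S.s_add_self T.he h8]
    rw [← h9]
    exact k.fix
  rcases S.two (γ + β) with hd | hd
  · -- in the Siegel group of `f`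
    rw [hd, zero_smul, zero_add] at hc
    have h7 : S.s e (c • f) * S.s f (r + t) = S.s f (c • e + (r + t)) := by
      have h8 : S.B f (c • e) = 0 := by rw [S.smul_right, T.fe', mul_zero]
      rw [← S.s_mul T.hf h8 hw1]
      congr 1
      rcases S.two c with h | h
      · rw [h, zero_smul, zero_smul, S.s_zero T.he, S.s_zero T.hf]
      · rw [h, one_smul, one_smul, S.s_symm T.he T.hf T.ef]
    rw [h7] at hc
    have h8 := R.free f T.hf T.f0 x _ (by
      rw [S.add_right, S.smul_right, T.fe', hw1, mul_zero, add_zero]) hc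
    have h9 : S.B t (c • e + (r + t)) = 1 := by
      rw [S.add_right, S.smul_right, S.add_right, hte, htr, S.self, mul_zero, zero_add, add_zero]
    rcases h8 with h8 | h8
    · rw [h8, S.zero_right] at h9
      exact zero_ne_one h9
    · rw [h8, htf] at h9
      exact zero_ne_one h9
  · -- in the Siegel group of `e + f`
    rw [hd, one_smul] at hc
    have hef0 : e + f ≠ 0 := fun h => T.fe (S.add_eq_zero.1 h).symm
    have hQef : S.Q (e + f) = 0 := by rw [S.Q_add, T.he, T.hf, T.ef, add_zero, add_zero]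
    have hB : S.B (e + f) (r + t + (c + 1) • f) = 0 := by
      rw [S.add_left, S.add_right, S.add_right _ _ (_ • f), S.smul_right, S.smul_right, hw0, hw1,
        T.ef, S.self, mul_zero, add_zero, add_zero]
    have hB' : S.B e (r + t + c • f) = 0 := by
      rw [S.add_right, S.smul_right, hw0, T.ef, mul_zero, add_zero]
    have hQw' : ∀ a : F, S.Q (r + t + a • f) = 1 := by
      intro a
      rw [S.Q_add, S.Q_smul, S.smul_right, hQw, T.hf, S.symm (r + t) f, hw1, mul_zero, add_zero,
        add_zero]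
    have h7 : S.s e (r + t + c • f) * S.s f (r + t) = S.s (e + f) (r + t + (c + 1) • f) := by
      apply S.ext
      intro y
      have hwe : S.B (r + t) e = 0 := by rw [S.symm, hw0]
      have hwf : S.B (r + t) f = 0 := by rw [S.symm, hw1]
      have hww : S.B (r + t) (r + t) = 0 := S.self _
      rw [mul_smul, S.s_smul T.hf hw1, S.s_smul T.he hB', S.s_smul hQef hB, hQw', hQw', hQw]
      generalize hw : r + t = w at *
      simp only [S.add_right, S.add_left, S.smul_right, S.smul_left, S.self, T.ef, T.fe', hw0, hw1,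
        hwe, hwf, mul_zero, add_zero, one_mul]
      have a1 := S.add_self ((S.B e y + c * S.B f y + S.B f y) • f)
      have a2 := S.add_self (S.B f y • e)
      symm
      refine Eq.trans (b := (y + S.B f y • w + S.B w y • f + S.B f y • f + S.B e y • (w + c • f) +
        (S.B w y + c * S.B f y) • e + S.B e y • e) +
        ((S.B e y + c * S.B f y + S.B f y) • f + (S.B e y + c * S.B f y + S.B f y) • f) +
        (S.B f y • e + S.B f y • e)) ?_ ?_
      · module
      · rw [a1, a2, add_zero, add_zero]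
    rw [h7] at hc
    have h8 := R.free (e + f) hQef hef0 x _ hB hc
    have h9 : S.B t (r + t + (c + 1) • f) = 1 := by
      rw [S.add_right, S.smul_right, S.add_right, htf, htr, S.self, mul_zero, add_zero, add_zero]
    rcases h8 with h8 | h8
    · rw [h8, S.zero_right] at h9
      exact zero_ne_one h9
    · rw [h8, S.add_right, hte, htf, add_zero] at h9
      exact zero_ne_one h9

end Op2

end Cfsg.Agent.H79.MinIdxOP2
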