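import Mathlib
import Cfsg.Agent.H79.MinIdxOP2.Regular
import Cfsg.Agent.H75.Transfer

/-!
# The group `E Q` of the plus type form over the field with two elements
-/

set_option autoImplicit false
set_option linter.unusedSectionVars false

namespace Cfsg.Agent.H79.MinIdxOP2

open QuadraticMap Cfsg.Agent.LieClassical.OrthCore Cfsg.Agent.LieClassical.OrthTrans
open Cfsg.Agent.LieClassical.OrthFinite Cfsg.Agent.LieClassical.OrthForms
open Cfsg.Agent.H75.OrthIdx

namespace Op2

variable {F V G : Type*} [Field F] [AddCommGroup V] [Module F V] [Group G]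
    [DistribMulAction G V] (S : Op2 F V G) {X : Type*} [MulAction G X]

/-- The minimal degree. -/
theorem le_card [Fintype V] [Finite X] [MulAction.IsPretransitive G X] {b k : ℕ} (hb : b = 2 ^ k)
    (hk : 2 ≤ k) (hV : Fintype.card V = 16 * b ^ 2)
    (hQ : cnt (fun v => S.Q v = 0) = 8 * b ^ 2 + 2 * b) {e f p q r t : V}
    (R : S.Frame e f p q r t) (hX : 1 < Nat.card X) : 8 * b ^ 2 ≤ Nat.card X + 2 * b := by
  by_contra hcon
  push Not at hcon
  have N : S.Hyp X b k := ⟨hb, hk, hV, hQ, by omega⟩
  have hne : Nonempty X := (Nat.card_pos_iff.1 (by omega)).1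
  by_cases hβ : ∃ (e₁ : V) (he₁ : S.Q e₁ = 0) (x₁ : X), e₁ ≠ 0 ∧
      ∀ w, S.B e₁ w = 0 → w ∈ S.Ann he₁ x₁
  · obtain ⟨e₁, he₁, x₁, he₁0, hβ⟩ := hβ
    have hfull := N.all_full R hX he₁0 hβ
    have hR : S.Reg X := {
      free := fun e he he0 x => free_of_full he (hfull e he he0 x)
      trans := fun e he he0 x y => N.rel_of_full he0 he (hfull e he he0 x) (hfull e he he0 y) }
    obtain ⟨x⟩ := hne
    exact hR.false R x
  · have hα : ∀ e (he : S.Q e = 0) (x : X), e ≠ 0 →
        ¬ ∀ w, S.B e w = 0 → w ∈ S.Ann he x := by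
      intro e he x he0 h
      exact hβ ⟨e, he, x, he0, h⟩
    obtain ⟨x⟩ := hne
    have h1 : MulAction.stabilizer G x = ⊤ := by
      apply R.stabilizer_eq_top
      intro e v he0 hv0 hve he hv hev
      exact N.root_fix R hα he0 hv0 hve he hv hev x
    have : Nontrivial X := Finite.one_lt_card_iff_nontrivial.1 hX
    obtain ⟨y, hy⟩ := exists_ne x
    obtain ⟨g, hg⟩ := MulAction.exists_smul_eq G x y
    have h2 : g ∈ MulAction.stabilizer G x := by rw [h1]; trivial
    exact hy (by rw [← hg]; exact h2)

/-- The stabilizer of a nonsingular vector. -/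
theorem index_ns [Fintype V] {n : V} (hn : S.Q n = 1) :
    (MulAction.stabilizer G n).index = cnt (fun v => S.Q v = 1) := by
  classical
  rw [MulAction.index_stabilizer, cnt_eq, ← Set.ncard_coe_finset]
  congr 1
  ext v
  simp only [Finset.coe_filter, Finset.mem_univ, true_and, Set.mem_ofPred_eq]
  have key : ∀ u : V, S.Q u = 1 → u ≠ 0 := by
    rintro u hu rfl
    rw [S.Q_zero] at hu
    exact zero_ne_one hu
  constructor
  · rintro ⟨g, rfl⟩
    change S.Q (g • n) = 1
    rw [S.invQ, hn]
  · intro hv
    obtain ⟨g, hg⟩ := S.wit1 n v (key n hn) (key v hv) (by rw [hn, hv])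
    exact ⟨g, hg⟩

end Op2

section Data

variable {F V : Type*} [Field F] [Finite F] [AddCommGroup V] [Module F V] [FiniteDimensional F V]
  {Q : QuadraticForm F V}

theorem li_one {e : V} (he : e ≠ 0) : LinearIndependent F ![e] := by
  rw [linearIndependent_unique_iff]
  exact he

theorem li_two (hF : ∀ a : F, a = 0 ∨ a = 1) {e a : V} (he : e ≠ 0) (ha : a ≠ 0) (hae : a ≠ e) :
    LinearIndependent F ![e, a] := by
  rw [LinearIndependent.pair_iff]
  intro s t h
  rcases hF s with rfl | rfl <;> rcases hF t with rfl | rfl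
  · exact ⟨rfl, rfl⟩
  · rw [zero_smul, one_smul, zero_add] at h
    exact absurd h ha
  · rw [zero_smul, one_smul, add_zero] at h
    exact absurd h he
  · exfalso
    rw [one_smul, one_smul] at h
    have h1 : (1 : F) + 1 = 0 := by
      rcases hF (1 + 1) with h | h
      · exact h
      · exact absurd (add_eq_left.1 h) one_ne_zero
    have h2 : e + e = 0 := by
      have : ((1 : F) + 1) • e = 0 := by rw [h1, zero_smul]
      rwa [add_smul, one_smul] at this
    exact hae (add_left_cancel (h.trans h2.symm))

theorem li_three (hF : ∀ a : F, a = 0 ∨ a = 1) {e a b : V} (he : e ≠ 0) (ha : a ≠ 0)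
    (hae : a ≠ e) (hb : b ≠ 0) (hbe : b ≠ e) (hba : b ≠ a) (hbea : b ≠ e + a) :
    LinearIndependent F ![b, e, a] := by
  refine linearIndependent_finCons.2 ⟨li_two hF he ha hae, ?_⟩
  rw [Matrix.range_cons, Matrix.range_cons, Matrix.range_empty, Set.union_empty,
    Set.singleton_union, Submodule.mem_span_pair]
  rintro ⟨s, t, h⟩
  rcases hF s with rfl | rfl <;> rcases hF t with rfl | rfl
  · rw [zero_smul, zero_smul, add_zero] at h
    exact hb h.symm
  · rw [zero_smul, one_smul, zero_add] at h
    exact hba h.symm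
  · rw [zero_smul, one_smul, add_zero] at h
    exact hbe h.symm
  · rw [one_smul, one_smul] at h
    exact hbea h.symm

theorem exists_map (hG : Good Q) (hd : 8 ≤ Module.finrank F V) {k : ℕ} (hk : k ≤ 3)
    (x y : Fin k → V) (hxi : LinearIndependent F x)
    (hyi : LinearIndependent F y) (hQxy : ∀ i, Q (x i) = Q (y i))
    (hB : ∀ i j, polar Q (x i) (x j) = polar Q (y i) (y j)) :
    ∃ g : E Q, ∀ i, g • x i = y i := by
  obtain ⟨g, hg, h⟩ := exists_E_map hG x y hxi hyi hQxy hB (by
    intro c _
    have h1 : Module.finrank F (Submodule.span F (Set.range x)) ≤ 3 := by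
      have := finrank_range_le_card (R := F) x
      rw [Set.finrank, Fintype.card_fin] at this
      omega
    obtain ⟨z, hz, hzc⟩ := exists_norm_perp hG.nondeg (Submodule.span F (Set.range x))
      (Or.inl (by omega)) c
    exact ⟨z, hzc, fun i => hz _ (Submodule.subset_span ⟨i, rfl⟩)⟩)
  exact ⟨⟨g, hg⟩, h⟩

/-- The data. -/
noncomputable def opData (hF : ∀ a : F, a = 0 ∨ a = 1) (hG : Good Q)
    (hd : 8 ≤ Module.finrank F V) : Op2 F V (E Q) where
  two := hF
  Q := Q
  B := polar Q
  Q_add u v := by rw [polar]; ring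
  add_left u v w := polar_add_left Q u v w
  symm u v := polar_comm _ _ _
  self v := by
    have h1 : (1 : F) + 1 = 0 := by
      rcases hF (1 + 1) with h | h
      · exact h
      · exact absurd (add_eq_left.1 h) one_ne_zero
    rw [polar_self, two_nsmul]
    rcases hF (Q v) with h | h
    · rw [h, add_zero]
    · rw [h, h1]
  nd v h := hG.nondeg v h
  invQ g v := mem_O.1 (E_le_O g.2) v
  s e w := ⟨sg Q e w, sg_mem_E e w⟩
  s_smul {e w} he hw x := by
    have h1 : (1 : F) + 1 = 0 := by
      rcases hF (1 + 1) with h | h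
      · exact h
      · exact absurd (add_eq_left.1 h) one_ne_zero
    have h2 : ∀ v : V, -v = v := by
      intro v
      rw [neg_eq_iff_add_eq_zero]
      have : ((1 : F) + 1) • v = 0 := by rw [h1, zero_smul]
      rwa [add_smul, one_smul] at this
    change sg Q e w x = _
    rw [sg_apply he hw, sub_eq_add_neg, sub_eq_add_neg, h2, h2]
  ext g h H := Subtype.ext (LinearEquiv.ext H)
  gen H h := by
    have h1 : E Q ≤ H.map (E Q).subtype := by
      conv_lhs => rw [E]
      rw [Subgroup.closure_le]
      rintro _ ⟨g, v, hg, hv, rfl⟩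
      rw [← sg_eq hg hv]
      exact ⟨⟨sg Q g v, sg_mem_E g v⟩, h g v hg hv, rfl⟩
    rw [eq_top_iff]
    intro x _
    obtain ⟨y, hy, hyx⟩ := h1 x.2
    have : y = x := Subtype.ext hyx
    rw [← this]
    exact hy
  wit1 e e' he he' hQ := by
    obtain ⟨g, hg⟩ := exists_map hG hd (k := 1) (by omega) ![e] ![e'] (li_one he) (li_one he')
      (by intro i; fin_cases i; exact hQ) (by
        intro i j
        fin_cases i; fin_cases j
        change polar Q e e = polar Q e' e'
        rw [polar_self, polar_self, hQ])
    exact ⟨g, hg 0⟩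
  wit2 e a e' a' he ha hae he' ha' hae' hQ1 hQ2 hB := by
    obtain ⟨g, hg⟩ := exists_map hG hd (k := 2) (by omega) ![e, a] ![e', a']
      (li_two hF he ha hae) (li_two hF he' ha' hae')
      (by
        intro i
        fin_cases i
        · exact hQ1
        · exact hQ2) (by
        intro i j
        fin_cases i <;> fin_cases j
        · change polar Q e e = polar Q e' e'
          rw [polar_self, polar_self, hQ1]
        · exact hB
        · change polar Q a e = polar Q a' e'
          rw [polar_comm Q a, polar_comm Q a', hB]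
        · change polar Q a a = polar Q a' a'
          rw [polar_self, polar_self, hQ2])
    exact ⟨g, hg 0, hg 1⟩
  wit3 e a b e' a' b' he ha hae hb hbe hba hbea he' ha' hae' hb' hbe' hba' hbea' hQ1 hQ2 hQ3
      hB1 hB2 hB3 := by
    obtain ⟨g, hg⟩ := exists_map hG hd (k := 3) (by omega) ![b, e, a] ![b', e', a']
      (li_three hF he ha hae hb hbe hba hbea) (li_three hF he' ha' hae' hb' hbe' hba' hbea')
      (by
        intro i
        fin_cases i
        · exact hQ3
        · exact hQ1
        · exact hQ2) (by
        intro i j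
        fin_cases i <;> fin_cases j
        · change polar Q b b = polar Q b' b'
          rw [polar_self, polar_self, hQ3]
        · change polar Q b e = polar Q b' e'
          rw [polar_comm Q b, polar_comm Q b', hB2]
        · change polar Q b a = polar Q b' a'
          rw [polar_comm Q b, polar_comm Q b', hB3]
        · exact hB2
        · change polar Q e e = polar Q e' e'
          rw [polar_self, polar_self, hQ1]
        · exact hB1
        · exact hB3
        · change polar Q a e = polar Q a' e'
          rw [polar_comm Q a, polar_comm Q a', hB1]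
        · change polar Q a a = polar Q a' a'
          rw [polar_self, polar_self, hQ2])
    exact ⟨g, hg 1, hg 2, hg 0⟩

end Data

end Cfsg.Agent.H79.MinIdxOP2
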