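import Mathlib
import Cfsg.Agent.H79.MinIdxOP2.Concrete
import Cfsg.Agent.LieClassical.QuadCount

/-!
# The plus type form
-/

set_option autoImplicit false
set_option linter.unusedSectionVars false

namespace Cfsg.Agent.H79.MinIdxOP2

open QuadraticMap Cfsg.Agent.LieClassical.OrthCore Cfsg.Agent.LieClassical.OrthTrans
open Cfsg.Agent.LieClassical.OrthFinite Cfsg.Agent.LieClassical.OrthForms
open Cfsg.Agent.H75.OrthIdx

variable {F : Type*} [Field F] [Fintype F] {m : ℕ}

theorem finrank_plus : Module.finrank F (Fin m ⊕ Fin m → F) = 2 * m := by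
  rw [Module.finrank_fintype_fun_eq_card, Fintype.card_sum, Fintype.card_fin, two_mul]

theorem good_plus (hm : 4 ≤ m) : Good (plusForm m F) :=
  good_of_finite (nondeg_plusForm m F) (by rw [finrank_plus]; omega)

/-- The frame of the plus type form. -/
theorem frame_plus (hF : ∀ a : F, a = 0 ∨ a = 1) (hm : 4 ≤ m) :
    (opData hF (good_plus (F := F) hm) (by rw [finrank_plus]; omega)).Frame
      (Pi.single (Sum.inl ⟨0, by omega⟩) 1) (Pi.single (Sum.inl ⟨1, by omega⟩) 1)
      (Pi.single (Sum.inl ⟨2, by omega⟩) 1) (Pi.single (Sum.inr ⟨2, by omega⟩) 1)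
      (Pi.single (Sum.inl ⟨3, by omega⟩) 1) (Pi.single (Sum.inr ⟨3, by omega⟩) 1) := by
  have hQl : ∀ i : Fin m, plusForm m F (Pi.single (Sum.inl i) 1) = 0 := by
    intro i
    rw [coe_plusForm, quadFormPlus_apply]
    simp
  have hQr : ∀ i : Fin m, plusForm m F (Pi.single (Sum.inr i) 1) = 0 := by
    intro i
    rw [coe_plusForm, quadFormPlus_apply]
    simp
  have hll : ∀ i j : Fin m, polar (plusForm m F) (Pi.single (Sum.inl i) 1)
      (Pi.single (Sum.inl j) 1) = 0 := by
    intro i j
    rw [polar_plusForm]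
    simp
  have hrr : ∀ i j : Fin m, polar (plusForm m F) (Pi.single (Sum.inr i) 1)
      (Pi.single (Sum.inr j) 1) = 0 := by
    intro i j
    rw [polar_plusForm]
    simp
  have hlr : ∀ i j : Fin m, polar (plusForm m F) (Pi.single (Sum.inl i) 1)
      (Pi.single (Sum.inr j) 1) = if i = j then 1 else 0 := by
    intro i j
    rw [polar_plusForm]
    simp [Pi.single_apply, eq_comm]
  have hrl : ∀ i j : Fin m, polar (plusForm m F) (Pi.single (Sum.inr i) 1)
      (Pi.single (Sum.inl j) 1) = if j = i then 1 else 0 := by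
    intro i j
    rw [polar_comm, hlr]
  constructor
  · exact hQl _
  · exact hQl _
  · exact hQl _
  · exact hQr _
  · exact hQl _
  · exact hQr _
  · exact hll _ _
  · exact hll _ _
  · exact (hlr _ _).trans (if_neg (by simp))
  · exact hll _ _
  · exact (hlr _ _).trans (if_neg (by simp))
  · exact hll _ _
  · exact (hlr _ _).trans (if_neg (by simp))
  · exact hll _ _
  · exact (hlr _ _).trans (if_neg (by simp))
  · exact (hlr _ _).trans (if_pos rfl)
  · exact (hlr _ _).trans (if_pos rfl)
  · exact hll _ _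
  · exact (hlr _ _).trans (if_neg (by simp))
  · exact (hrl _ _).trans (if_neg (by simp))
  · exact hrr _ _
  · intro h
    have := congrFun h (Sum.inl ⟨0, by omega⟩)
    simp at this
  · intro h
    have := congrFun h (Sum.inl ⟨1, by omega⟩)
    simp at this
  · intro h
    have := congrFun h (Sum.inl ⟨1, by omega⟩)
    simp at this

theorem card_V {b k : ℕ} (hF : Fintype.card F = 2) (hb : b = 2 ^ k) (hk : m = k + 2) :
    Fintype.card (Fin m ⊕ Fin m → F) = 16 * b ^ 2 := by
  classical
  rw [Fintype.card_fun, hF, Fintype.card_sum, Fintype.card_fin, hb, hk]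
  ring

theorem cnt_plus {b k : ℕ} (hF : Fintype.card F = 2) (hb : b = 2 ^ k) (hk : m = k + 2) :
    Op2.cnt (fun v => plusForm m F v = 0) = 8 * b ^ 2 + 2 * b := by
  classical
  have h := Cfsg.Agent.LieClassical.QuadCount.card_plus (F := F) m 0
  rw [if_pos rfl, hF, hk] at h
  have h1 : Nat.card {v : Fin m ⊕ Fin m → F // Cfsg.quadFormPlus m F v = 0} =
      Op2.cnt (fun v => plusForm m F v = 0) := by
    rw [Op2.cnt_eq, Nat.card_eq_fintype_card, Fintype.card_subtype, coe_plusForm]
  subst hk
  rw [h1] at h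
  have h2 : 2 ^ (2 * (k + 2)) = 16 * b ^ 2 := by rw [hb]; ring
  have h3 : 2 ^ (k + 2) = 4 * b := by rw [hb]; ring
  have h4 : 2 ^ (k + 2 + 1) = 8 * b := by rw [hb]; ring
  rw [h2, h3, h4] at h
  omega

end Cfsg.Agent.H79.MinIdxOP2
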